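import Cfsg.Agent.Omega.IId.M4.Entry
import Cfsg.Agent.Omega.IId.ExcFree
import Cfsg.Agent.Omega.IId.TwoOfC

/-!
# II.d, `WrBig`: the entry to `BTS` for any number of factors (helper540)

`M : NatK F S P (zl S P) ⊥ k`, `V_i = fac M i`, `R = line M i`, `T = stab M i = N_S(V_i)`, `Q = O₂(N_G(R))`,
`CC M` = THEOREM C.

* `BOne M i` : `Q ≤ T`;
* `BOne.bts` : if `T` is a Sylow 2-subgroup of `N_G(V_i)` and `⟨V_i^{N_G(R)}⟩` is nonabelian:
  `NatMod F V_i`, `BTS V_i (pt N)` and `V_j ≤ CenX V_i (pt N)` for all `j ≠ i`;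
* `BFour M i` : `T` is a Sylow 2-subgroup of `N_G(R)`, `|F| ≥ 4`; `BFour.syl_fac`, `BFour.bts`.
-/

set_option autoImplicit false
set_option linter.unusedSectionVars false

namespace Cfsg.Agent.Omega.IId.BigFour

open Subgroup Cfsg Cfsg.Agent.ZN.ChoiceBase
open Cfsg.Agent.ZN (o2 zc zl)
open Cfsg.Agent.Omega.MinPar Cfsg.Agent.Omega.FFThm Cfsg.Agent.Omega.Frame
open Cfsg.Agent.Lib.SL2Mat
open Cfsg.Agent.Omega.NatPair (ap ap_mul ap_one ap_inv_ap ap_ap_inv exists_ap ap_add NatMod PreMod)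
open Cfsg.Agent.MinSimple.VModule (o2_isPGroup)
open Cfsg.Agent.Omega.IId.SideOf (exists_fixed_mod KR KR_le_o2 isPGroup_of_sq line_sq)
open Cfsg.Agent.Omega.IId.Two (le_normalizer_of)
open Cfsg.Agent.Omega.IId.Lns (exists_torus' exists_up)
open Cfsg.Agent.Omega.IId.FourSide (pre pre_e Nm_stab vec_ne)
open scoped commutatorElement

universe u

variable {G : Type u} [Group G] [Finite G] {F : Type} [Field F] [Finite F] [CharP F 2]
  {S : Sylow 2 G} {P : Subgroup G} {k : ℕ}

theorem pre_line {M : NatK F (S : Subgroup G) P (zl (S : Subgroup G) P) ⊥ k} {i : Fin k} :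
    (pre M i).line ![1, 0] = line M i := by
  ext g
  rw [PreMod.mem_line, mem_line]
  constructor
  · rintro ⟨c, rfl⟩
    refine ⟨(pre M i).e_mem _, ?_⟩
    rw [pre_e]
    simp
  · rintro ⟨hg, hg1⟩
    refine ⟨M.e g i 0, ext_fac M ((pre M i).e_mem _) hg ?_⟩
    rw [pre_e]
    apply NatPair.ext2
    · simp
    · rw [hg1]; simp

/-- `O₂(N_G(line M i)) ≤ stab M i` and THEOREM C. -/
structure BOne (M : NatK F (S : Subgroup G) P (zl (S : Subgroup G) P) ⊥ k) (i : Fin k) : Prop where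
  c2T : IsCharacteristicTwoType G
  par : IsParS (S : Subgroup G) P
  cc : CC M
  QT : o2 (normalizer (line M i : Set G)) ≤ stab M i

namespace BOne

variable {M : NatK F (S : Subgroup G) P (zl (S : Subgroup G) P) ⊥ k} {i : Fin k} (h : BOne M i)
include h

theorem le : (S : Subgroup G) ≤ P := h.par.isLoc.le

theorem T2 : IsPGroup 2 (stab M i) := S.isPGroup'.to_le (stab_le M i)

/-- `O₂(N_G(R))` centralises `R`. -/
theorem o2_cent_line : o2 (normalizer (line M i : Set G)) ≤ centralizer (line M i : Set G) := by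
  obtain ⟨r, hr, hr1, hrt⟩ := Half.exists_fixed (V := line M i) (isPGroup_of_sq (line_sq M i))
    (line_ne_bot i) (o2_isPGroup (normalizer (line M i : Set G))) (Cfsg.Agent.ZN.o2_le _)
  intro x hx
  rw [mem_centralizer_iff]
  intro r' hr'
  by_cases hr1' : r' = 1
  · rw [hr1', one_mul, mul_one]
  obtain ⟨g, -, hg, rfl⟩ := exists_tor M hr hr' hr1 hr1'
  have h1 : g⁻¹ * x * g ∈ o2 (normalizer (line M i : Set G)) := by
    have := (mem_normalizer_iff.1 (inv_mem (Cfsg.Agent.ZN.le_normalizer_o2 _ hg)) x).1 hx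
    rwa [inv_inv] at this
  have h2 := hrt _ h1
  calc g * r * g⁻¹ * x = g * (g⁻¹ * x * g * r * (g⁻¹ * x * g)⁻¹) * g⁻¹ * x := by rw [h2]
    _ = x * (g * r * g⁻¹) := by group

/-- `O₂(N_G(R))` centralises `V_i/R`. -/
theorem comm_fac : ∀ v ∈ fac M i, ∀ x ∈ o2 (normalizer (line M i : Set G)), x * v * x⁻¹ * v⁻¹ ∈ line M i := by
  have hSP : (S : Subgroup G) ≤ P := h.le
  have hQ := h.QT
  have hV2 : IsPGroup 2 (fac M i) := isPGroup_of_sq fun x hx => sq M (fac_le M i hx)
  have hab : ∀ x ∈ fac M i, ∀ y ∈ fac M i, x * y = y * x := fun x hx y hy =>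
    comm M (fac_le M i hx) (fac_le M i hy)
  have hne : ¬ fac M i ≤ line M i := by
    intro h
    obtain ⟨v, hv, hev⟩ := exists_fac M i ![0, 1]
    have h1 := ((mem_line M).1 (h hv)).2
    rw [hev] at h1
    simp at h1
  have hn : fac M i ≤ normalizer (line M i : Set G) := by
    apply le_normalizer_of
    intro k hk v hv
    rw [hab k hk v (line_le M i hv), mul_inv_cancel_right]
    exact hv
  obtain ⟨b, hb, hb1, hbt⟩ := exists_fixed_mod hne hn hV2
    (o2_isPGroup (normalizer (line M i : Set G))) (Cfsg.Agent.ZN.o2_le _) (hQ.trans (stab_normalizes M i))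
  intro v hv x hx
  by_cases hvl : v ∈ line M i
  · have h1 := (mem_normalizer_iff.1 (Cfsg.Agent.ZN.o2_le _ hx) v).1 hvl
    exact mul_mem h1 (inv_mem hvl)
  obtain ⟨g, hg0, hg, hgv⟩ := exists_torus' hb hv hb1 hvl
  -- `g b g⁻¹ = v r`
  set r := v⁻¹ * (g * b * g⁻¹) with hr
  have h1 : g⁻¹ * x * g ∈ o2 (normalizer (line M i : Set G)) := by
    have := (mem_normalizer_iff.1 (inv_mem (Cfsg.Agent.ZN.le_normalizer_o2 _ hg)) x).1 hx
    rwa [inv_inv] at this
  have h2 := (mem_normalizer_iff.1 hg _).1 (hbt _ h1)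
  have e1 : g * (g⁻¹ * x * g * b * (g⁻¹ * x * g)⁻¹ * b⁻¹) * g⁻¹ =
      x * (g * b * g⁻¹) * x⁻¹ * (g * b * g⁻¹)⁻¹ := by group
  have e2 : g * b * g⁻¹ = v * r := by rw [hr]; group
  rw [e1, e2] at h2
  -- `[x, v r] = x v x⁻¹ (x r x⁻¹) r⁻¹ v⁻¹`
  have h3 : x * r * x⁻¹ ∈ line M i := (mem_normalizer_iff.1 (Cfsg.Agent.ZN.o2_le _ hx) r).1 hgv
  have h4 : x * r * x⁻¹ * r⁻¹ ∈ line M i := mul_mem h3 (inv_mem hgv)
  have e3 : x * (v * r) * x⁻¹ * (v * r)⁻¹ = x * v * x⁻¹ * v⁻¹ * (v * (x * r * x⁻¹ * r⁻¹) * v⁻¹) := by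
    group
  have e4 : v * (x * r * x⁻¹ * r⁻¹) * v⁻¹ = x * r * x⁻¹ * r⁻¹ := by
    rw [hab v hv _ (line_le M i h4), mul_inv_cancel_right]
  rw [e3, e4] at h2
  exact (mul_mem_cancel_right h4).1 h2

/-- `V_i ≤ KR R`. -/
theorem fac_le_KR : fac M i ≤ KR (line M i) := by
  intro v hv
  refine ⟨?_, fun x hx => ?_⟩
  · rw [mem_centralizer_iff]
    intro r hr
    exact comm M (fac_le M i (line_le M i hr)) (fac_le M i hv)
  · have h1 := h.comm_fac v hv x hx
    have e : v * x * v⁻¹ * x⁻¹ = (x * v * x⁻¹ * v⁻¹)⁻¹ := by group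
    rw [e]
    exact inv_mem h1

theorem KR_le : KR (line M i) ≤ o2 (normalizer (line M i : Set G)) :=
  KR_le_o2 h.c2T (line_ne_bot i) (line_sq M i)

/-- `V_i ≤ O₂(N_G(R))`. -/
theorem fac_le_o2 : fac M i ≤ o2 (normalizer (line M i : Set G)) := h.fac_le_KR.trans h.KR_le

/-- The elements of `O₂(N_G(R))` act on `V_i` as `up b`. -/
theorem o2_up {w : G} (hw : w ∈ o2 (normalizer (line M i : Set G))) :
    ∃ b : F, ∀ v ∈ fac M i, M.e (w * v * w⁻¹) i = ap (up b) (M.e v i) := by
  refine exists_up (h.le (stab_le M i (h.QT hw))) (fun r hr => ?_) fun v hv => h.comm_fac v hv w hw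
  rw [← mem_centralizer_iff.1 (h.o2_cent_line hw) r hr, mul_inv_cancel_right]

/-- `V_j ≤ O₂(N_G(R))` centralises `O₂(N_G(R))`, for `j ≠ i`. -/
theorem other {j : Fin k} (hj : j ≠ i) : fac M j ≤ o2 (normalizer (line M i : Set G)) ∧
    fac M j ≤ centralizer (o2 (normalizer (line M i : Set G)) : Set G) := by
  have h1 := h.cc i j hj
  refine ⟨fun v hv => ?_, h1⟩
  refine MinSimple.Basic.char2_normalizer h.c2T (isPGroup_of_sq (line_sq M i)) (line_ne_bot i)
    (mem_inf.2 ⟨?_, h1 hv⟩)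
  apply centralizer_le_normalizer
  rw [mem_centralizer_iff]
  intro x hx
  exact comm M hx.1.1 hv.1

/-- all of `V` lies in `O₂(N_G(R))` -/
theorem all_le (j : Fin k) : fac M j ≤ o2 (normalizer (line M i : Set G)) := by
  by_cases hj : j = i
  · rw [hj]; exact h.fac_le_o2
  · exact (h.other hj).1

/-- The data of LEMMA NL. -/
theorem cor : NLFree.Cor (line M i) (fac M i) (normalizer (line M i : Set G)) (normalizer (fac M i : Set G)) where
  RA := line_le M i
  R1 := line_ne_bot i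
  pA := isPGroup_of_sq fun x hx => sq M (fac_le M i hx)
  cH := centralizer_le_normalizer _
  HR := le_rfl
  AQ := h.fac_le_o2
  com := fun v hv => (h.fac_le_KR hv).2
  DA := le_rfl
  irr X hX hne := by
    obtain ⟨a, ha, ha1⟩ := (Subgroup.bot_or_exists_ne_one _).resolve_left hne
    intro b hb
    by_cases hb1 : b = 1
    · rw [hb1]; exact one_mem _
    obtain ⟨g, hg, rfl⟩ := exists_grp M ha.1 hb ha1 hb1
    exact (mem_normalizer_iff.1 (hX (grp_normalizes M {i} {i} hg)) a).1 ha.2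

/-- `[V_i, w] = R` for `w ∈ O₂(N_G(R))` not centralising `V_i`. -/
theorem line_le_comm {w : G} (hw : w ∈ o2 (normalizer (line M i : Set G)))
    (hne : ∃ v ∈ fac M i, v * w ≠ w * v) {r : G} (hr : r ∈ line M i) : ∃ v ∈ fac M i, v * w * v⁻¹ * w⁻¹ = r := by
  obtain ⟨b, hb⟩ := h.o2_up hw
  have hwn := stab_normalizes M i (h.QT hw)
  have hb0 : b ≠ 0 := by
    rintro rfl
    obtain ⟨v, hv, hvw⟩ := hne
    apply hvw
    have h1 : w * v * w⁻¹ = v := by
      refine ext_fac M ((mem_normalizer_iff.1 hwn v).1 hv) hv ?_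
      rw [hb v hv, up_zero, NatPair.ap_one]
    calc v * w = w * v * w⁻¹ * w := by rw [h1]
      _ = w * v := by group
  obtain ⟨v, hv, hev⟩ := exists_fac M i ![0, - M.e r i 0 / b]
  have hwv := (mem_normalizer_iff.1 hwn _).1 (inv_mem hv)
  refine ⟨v, hv, ?_⟩
  have e : v * w * v⁻¹ * w⁻¹ = v * (w * v⁻¹ * w⁻¹) := by group
  rw [e]
  refine ext_fac M (mul_mem hv hwv) (line_le M i hr) ?_
  rw [M.mul _ hv.1 _ hwv.1, Pi.add_apply, hb _ (inv_mem hv), e_inv M hv.1, Pi.neg_apply, hev]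
  apply NatPair.ext2
  · rw [Pi.add_apply, NatPair.ap_zero', up_00, up_01]
    simp only [Matrix.cons_val_zero, Matrix.cons_val_one, Pi.neg_apply]
    field_simp
    ring
  · rw [Pi.add_apply, NatPair.ap_one', up_10, up_11, ((mem_line M).1 hr).2]
    simp only [Matrix.cons_val_zero, Matrix.cons_val_one, Pi.neg_apply]
    ring

/-- **Nonlocality.** -/
theorem nonLoc {c : G} (hc : c ∈ normalizer (line M i : Set G))
    (hne : ∃ v ∈ fac M i, ∃ w ∈ fac M i, v * (c * w * c⁻¹) ≠ c * w * c⁻¹ * v) :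
    NonLoc (normalizer (line M i : Set G)) (normalizer (fac M i : Set G)) := by
  refine h.cor.nonLoc h.c2T hc fun r hr => ?_
  obtain ⟨v, hv, w, hw, hvw⟩ := hne
  have hcw : c * w * c⁻¹ ∈ o2 (normalizer (line M i : Set G)) :=
    (mem_normalizer_iff.1 (Cfsg.Agent.ZN.le_normalizer_o2 _ hc) w).1 (h.fac_le_o2 hw)
  obtain ⟨v', hv', e⟩ := h.line_le_comm hcw ⟨v, hv, hvw⟩ hr
  exact subset_closure ⟨v', hv', w, hw, e.symm⟩

/-- **The entry to `BTS`**: `T` a Sylow 2-subgroup of `N_G(V_i)`, `⟨V_i^{N_G(R)}⟩` nonabelian. -/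
theorem bts (hS1 : ¬ 2 ∣ (stab M i).relIndex (normalizer (fac M i : Set G)))
    {c : G} (hc : c ∈ normalizer (line M i : Set G))
    (hne : ∃ v ∈ fac M i, ∃ w ∈ fac M i, v * (c * w * c⁻¹) ≠ c * w * c⁻¹ * v) :
    ∃ N' : NatMod F (fac M i), (∀ x, M.e (N'.e x) i = x) ∧ N'.line ![1, 0] = line M i ∧
      BTwo.BTS (fac M i) (BTwo.pt N') ∧ ∀ j, j ≠ i → fac M j ≤ BTwo.CenX (fac M i) (BTwo.pt N') := by
  have hN := pre_e M i
  set N := pre M i with hNdef
  have hline : N.line ![1, 0] = line M i := pre_line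
  have hQT := h.QT
  have hVQ := h.fac_le_o2
  -- `V_i ^ c ≤ Q`
  have hcQ : NatPair.cj c (fac M i) ≤ o2 (normalizer (line M i : Set G)) := by
    intro x hx
    rw [NatPair.mem_cj] at hx
    have h1 := (mem_normalizer_iff.1 (Cfsg.Agent.ZN.le_normalizer_o2 _ hc) _).1 (hVQ hx)
    have e : c * (c⁻¹ * x * c) * c⁻¹ = x := by group
    rwa [e] at h1
  rcases N.dich_sub h.T2 (stab_normalizes M i) hS1 (Nm_stab h.le M i) with hall | hE
  · -- the natural module
    set N' : NatMod F (fac M i) := N.toNatMod hall with hN'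
    have hNe : ∀ x, M.e (N'.e x) i = x := fun x => hN x
    have hline' : N'.line ![1, 0] = line M i := by
      rw [← hline]
      rfl
    have hmut : NatPair.Mutual (fac M i) (NatPair.cj c (fac M i)) := by
      refine ⟨hcQ.trans (hQT.trans (stab_normalizes M i)), ?_, ?_⟩
      · intro x hx
        rw [NatPair.mem_normalizer_cj]
        apply stab_normalizes M i
        apply hQT
        have := (mem_normalizer_iff.1 (inv_mem (Cfsg.Agent.ZN.le_normalizer_o2 _ hc)) x).1 (hVQ hx)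
        rwa [inv_inv] at this
      · obtain ⟨v, hv, w, hw, hvw⟩ := hne
        refine ⟨v, hv, _, ?_, hvw⟩
        rw [NatPair.mem_cj]
        have e : c⁻¹ * (c * w * c⁻¹) * c = w := by group
        rwa [e]
    have hinf : fac M i ⊓ NatPair.cj c (fac M i) = line M i := by
      obtain ⟨-, w, w', hw, -, hl, -⟩ := NatPair.pair N' (N'.conj c) hmut
      have h1 : line M i ≤ fac M i ⊓ NatPair.cj c (fac M i) := by
        refine le_inf (line_le M i) fun x hx => ?_
        rw [NatPair.mem_cj]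
        apply line_le M i
        have := (mem_normalizer_iff.1 (inv_mem hc) x).1 hx
        rwa [inv_inv] at this
      refine (Subgroup.eq_of_le_of_card_ge h1 ?_).symm
      rw [hl, N'.card_line hw.ne, card_line]
    have a : BTwo.At (fac M i) (N'.line ![1, 0]) c := by
      rw [hline']
      exact ⟨hc, hmut, hinf, hVQ⟩
    have hQ₀ : BTwo.QQ (N'.line ![1, 0]) ≤ normalizer (fac M i : Set G) := by
      rw [hline']
      exact hQT.trans (stab_normalizes M i)
    have hnl : NonLoc (normalizer (fac M i : Set G)) (normalizer (N'.line ![1, 0] : Set G)) := by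
      rw [hline']
      intro U hU h1 h2
      exact h.nonLoc hc hne U hU h2 h1
    have b := BtsOf.bts_of_at N' h.c2T vec_ne a hQ₀ hnl
    refine ⟨N', hNe, hline', b, fun j hj => ?_⟩
    refine BtsOf.le_CenX N' vec_ne b.toBT ?_ ?_
    · rw [hline']
      exact (h.other hj).2
    · intro B
      obtain ⟨l, hl, hlB⟩ := Lns.exists_lift M i B
      refine ⟨l, fun x => ?_, fun a ha => grp_comm M (Set.disjoint_singleton.2 (Ne.symm hj)) hl ha⟩
      refine ext_fac M ((mem_normalizer_iff.1 (grp_normalizes M {i} {i} hl) _).1 (N.e_mem x)) (N.e_mem _) ?_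
      change M.e (l * N.e x * l⁻¹) i = M.e (N.e (ap B x)) i
      rw [hlB _ (N.e_mem x).1, hN, hN]
  · exfalso
    refine ExcFree.exc_false N h.c2T h.T2 hE vec_ne (c := c) ?_ ?_ ?_ ?_ ?_ ?_ ?_ ?_
    · rw [hline]
      exact stab_normalizes_line M h.le i
    · -- `O₂(C_G(r)) ∩ N_G(V_i) ≤ T`
      intro r hr hr1 hrc
      set L : Subgroup G := centralizer ({r} : Set G) ⊓ normalizer (fac M i : Set G) with hL
      have hTL : stab M i ≤ L := le_inf (fun t ht => mem_centralizer_singleton_iff.2 (hrc t ht))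
        (stab_normalizes M i)
      have hd : ¬ 2 ∣ (stab M i).relIndex L := by
        intro hd
        apply hS1
        rw [← relIndex_mul_relIndex _ _ _ hTL (inf_le_right : L ≤ normalizer (fac M i : Set G))]
        exact hd.mul_right _
      refine le_trans (Cfsg.Agent.ZN.le_o2 (inf_le_inf_right _ (Cfsg.Agent.ZN.o2_le _))
        ((o2_isPGroup _).to_le inf_le_left) ?_) (Cfsg.Agent.MinSimple.VModule.o2_le_of_sylow h.T2 hd)
      exact Half.le_normalizer_inf (inf_le_left.trans (Cfsg.Agent.ZN.le_normalizer_o2 _))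
        (inf_le_right.trans le_normalizer)
    · rw [hline]; exact hVQ
    · rw [hline]; exact hQT.trans (stab_normalizes M i)
    · rw [hline]; exact h.o2_cent_line
    · rw [hline]
      intro q hq r hr hqr
      by_contra hcon
      push Not at hcon
      -- a further element of the line
      obtain ⟨w, hw, hw1, hwr⟩ : ∃ w ∈ line M i, w ≠ 1 ∧ w ≠ r := by
        by_contra hcon
        push Not at hcon
        have h1 : (line M i : Set G) ⊆ {1, r} := by
          intro x hx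
          by_cases hx1 : x = 1
          · exact Or.inl hx1
          · exact Or.inr (hcon x hx hx1)
        have h2 := Set.ncard_le_ncard h1 (Set.toFinite _)
        have h3 : ({1, r} : Set G).ncard ≤ 2 := (Set.ncard_insert_le 1 {r}).trans (by rw [Set.ncard_singleton])
        have h4 : (line M i : Set G).ncard = Nat.card F := card_line M i
        have h5 := hE.card
        omega
      obtain ⟨v, hv, hvw⟩ := h.line_le_comm hq hcon hw
      rcases hqr v hv with h1 | h1
      · exact hw1 (hvw.symm.trans h1)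
      · exact hwr (hvw.symm.trans h1)
    · rw [hline]; exact hc
    · rw [hline]
      intro r hr
      obtain ⟨v, hv, w, hw, hvw⟩ := hne
      have hcw : c * w * c⁻¹ ∈ o2 (normalizer (line M i : Set G)) :=
        (mem_normalizer_iff.1 (Cfsg.Agent.ZN.le_normalizer_o2 _ hc) w).1 (hVQ hw)
      obtain ⟨v', hv', e⟩ := h.line_le_comm hcw ⟨v, hv, hvw⟩ hr
      exact ⟨v', hv', w, hw, e⟩

end BOne

/-! ### CASE 1 -/

/-- CASE 1, `q ≥ 4`: `N_S(V_i)` is a Sylow 2-subgroup of `N_G(line M i)`. -/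
structure BFour (M : NatK F (S : Subgroup G) P (zl (S : Subgroup G) P) ⊥ k) (i : Fin k) : Prop where
  c2T : IsCharacteristicTwoType G
  par : IsParS (S : Subgroup G) P
  cc : CC M
  q4 : 4 ≤ Nat.card F
  syl : ¬ 2 ∣ (stab M i).relIndex (normalizer (line M i : Set G))

namespace BFour

variable {M : NatK F (S : Subgroup G) P (zl (S : Subgroup G) P) ⊥ k} {i : Fin k} (h : BFour M i)
include h

theorem le : (S : Subgroup G) ≤ P := h.par.isLoc.le

theorem T2 : IsPGroup 2 (stab M i) := S.isPGroup'.to_le (stab_le M i)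

theorem one : BOne M i where
  c2T := h.c2T
  par := h.par
  cc := h.cc
  QT := MinSimple.VModule.o2_le_of_sylow h.T2 h.syl

/-- A 2-group containing `T` which normalises the line is `T`. -/
theorem le_T {U : Subgroup G} (hU : IsPGroup 2 U) (hTU : stab M i ≤ U)
    (hUR : U ≤ normalizer (line M i : Set G)) : U ≤ stab M i := by
  have h1 := SideOf.card_dvd_of (stab_normalizes_line M h.le i) h.syl hU hUR
  exact (Subgroup.eq_of_le_of_card_ge hTU (Nat.le_of_dvd Nat.card_pos h1)).ge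

/-- The line `line M i` is the only subgroup of order `q` of `V_i` which is normalised by `T`. -/
theorem eq_line {X : Subgroup G} (hX : X ≤ fac M i) (hc : Nat.card X = Nat.card F)
    (hn : stab M i ≤ normalizer (X : Set G)) : X = line M i := by
  by_cases hle : X ≤ line M i
  · exact Subgroup.eq_of_le_of_card_ge hle (by rw [hc, card_line])
  obtain ⟨x, hx, hxl⟩ := Set.not_subset.1 hle
  have hx1 : M.e x i 1 ≠ 0 := fun h0 => hxl ((mem_line M).2 ⟨hX hx, h0⟩)
  refine (Subgroup.eq_of_le_of_card_ge (fun r hr => ?_) (by rw [hc, card_line])).symm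
  obtain ⟨u, hu, hug, h1⟩ := exists_unip M h.le i (M.e r i 0 / M.e x i 1)
  have h2 : u * x * u⁻¹ ∈ X := (mem_normalizer_iff.1 (hn hu) x).1 hx
  have h3 : r = u * x * u⁻¹ * x⁻¹ := by
    refine ext_fac M (line_le M i hr) (mul_mem (hX h2) (inv_mem (hX hx))) ?_
    rw [M.mul _ (hX h2).1 _ (inv_mem (hX hx).1), Pi.add_apply, e_inv M (hX hx).1, Pi.neg_apply,
      h1.1 x (hX hx).1 i, Function.update_self]
    apply NatPair.ext2
    · rw [Pi.add_apply, NatPair.ap_zero', up_00, up_01, Pi.neg_apply]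
      field_simp
      ring
    · rw [Pi.add_apply, NatPair.ap_one', up_10, up_11, Pi.neg_apply, ((mem_line M).1 hr).2]
      ring
  rw [h3]
  exact mul_mem h2 (inv_mem hx)

/-- **`T` is a Sylow 2-subgroup of `N_G(V_i)`.** -/
theorem syl_fac : ¬ 2 ∣ (stab M i).relIndex (normalizer (fac M i : Set G)) := by
  have : Fact (Nat.Prime 2) := ⟨Nat.prime_two⟩
  obtain ⟨Q, hTQ, hQN, hQ2, hQs⟩ := Half.exists_sylow_le h.T2 (stab_normalizes M i)
  have hQT : Q = stab M i := by
    by_contra hne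
    have hlt : stab M i < Q := lt_of_le_of_ne hTQ (Ne.symm hne)
    have hlt' := Lib.GoldschmidtFusion.lt_inf_normalizer hQ2 hlt
    refine hlt'.not_ge (h.le_T (hQ2.to_le inf_le_left) hlt'.le fun t ht => ?_)
    -- `t` normalises `T` and `V_i`, so it normalises the line
    rw [mem_normalizer_iff_cj]
    refine h.eq_line ?_ (by rw [card_cj, card_line]) ?_
    · intro x hx
      rw [mem_cj_iff] at hx
      have h1 := (mem_normalizer_iff.1 (hQN ht.1) _).1 (line_le M i hx)
      have e : t * (t⁻¹ * x * t) * t⁻¹ = x := by group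
      rwa [e] at h1
    · have h1 := cj_mono t (stab_normalizes_line M h.le i)
      rw [cj_normalizer, cj_eq_of_mem_normalizer ht.2] at h1
      exact h1
  rwa [hQT] at hQs

/-- **The entry to `BTS`**, CASE 1. -/
theorem bts {c : G} (hc : c ∈ normalizer (line M i : Set G))
    (hne : ∃ v ∈ fac M i, ∃ w ∈ fac M i, v * (c * w * c⁻¹) ≠ c * w * c⁻¹ * v) :
    ∃ N' : NatMod F (fac M i), (∀ x, M.e (N'.e x) i = x) ∧ N'.line ![1, 0] = line M i ∧
      BTwo.BTS (fac M i) (BTwo.pt N') ∧ ∀ j, j ≠ i → fac M j ≤ BTwo.CenX (fac M i) (BTwo.pt N') :=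
  h.one.bts h.syl_fac hc hne

end BFour

end Cfsg.Agent.Omega.IId.BigFour
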