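import Cfsg.Agent.Omega.IId.BigFour.Entry
import Cfsg.Agent.Omega.IId.M4.Mixed

/-!
# II.d, `WrBig`, `q ≥ 4`, CASE 1 on both sides: the mixed case is impossible, any number of factors (helper540)

`mixed_false` : `BFour M i`, `BFour M' i'` on the same line `R`, `[V_i, V_i'] ≠ 1`, `⟨V_i^{N_G(R)}⟩` and
`⟨V_i'^{N_G(R)}⟩` abelian, a further factor `V_j`: contradiction.
-/

set_option autoImplicit false
set_option linter.unusedSectionVars false

namespace Cfsg.Agent.Omega.IId.BigFour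

open Subgroup Cfsg Cfsg.Agent.ZN.ChoiceBase
open Cfsg.Agent.ZN (o2 zc zl)
open Cfsg.Agent.Omega.MinPar Cfsg.Agent.Omega.FFThm
open Cfsg.Agent.Lib.SL2Mat
open Cfsg.Agent.Omega.NatPair (ap NatMod PreMod)
open Cfsg.Agent.Omega.Mix (RMod LL)
open Cfsg.Agent.Omega.IId.FourSide (pre pre_e Nm_stab vec_ne)
open Cfsg.Agent.Omega.IId.M4 (MixedT nmG mem_nmG ind_mem_nmG toRMod toRMod_line LL_comm exists_cj_eq)

universe u

section side

variable {G : Type u} [Group G] [Finite G] {F : Type} [Field F] [Finite F] [CharP F 2]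
  {S : Sylow 2 G} {P : Subgroup G} {k : ℕ}
  {M : NatK F (S : Subgroup G) P (zl (S : Subgroup G) P) ⊥ k} {i : Fin k}

theorem stab_le_nmG (h : (S : Subgroup G) ≤ P) : stab M i ≤ nmG (pre M i) := fun t ht =>
  ⟨stab_normalizes M i ht, Nm_stab h M i t ht, Nm_stab h M i _ (inv_mem ht)⟩

theorem grp_le_nmG (i : Fin k) : grp M {i} ≤ nmG (pre M i) := by
  intro g hg
  obtain ⟨B, hB⟩ := Lns.grp_act hg
  refine ind_mem_nmG (A := B) fun x => ?_
  refine ext_fac M (Lns.grp_conj_fac hg ((pre M i).e_mem x)) ((pre M i).e_mem _) ?_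
  rw [hB _ ((pre M i).e_mem x).1, pre_e, pre_e]

/-- The data of LEMMA NL with `nmG`. -/
theorem BOne.cor_nm (h : BOne M i) :
    NLFree.Cor (line M i) (fac M i) (normalizer (line M i : Set G)) (nmG (pre M i)) where
  RA := line_le M i
  R1 := line_ne_bot i
  pA := h.cor.pA
  cH := centralizer_le_normalizer _
  HR := le_rfl
  AQ := h.fac_le_o2
  com := fun v hv => (h.fac_le_KR hv).2
  DA := fun _ hx => hx.1
  irr X hX hne := by
    obtain ⟨a, ha, ha1⟩ := (Subgroup.bot_or_exists_ne_one _).resolve_left hne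
    intro b hb
    by_cases hb1 : b = 1
    · rw [hb1]; exact one_mem _
    obtain ⟨g, hg, rfl⟩ := exists_grp M ha.1 hb ha1 hb1
    exact (mem_normalizer_iff.1 (hX (grp_le_nmG i hg)) a).1 ha.2

end side

section both

variable {G : Type u} [Group G] [Finite G] {F F' : Type} [Field F] [Finite F] [CharP F 2]
  [Field F'] [Finite F'] [CharP F' 2] {S S' : Sylow 2 G} {P P' : Subgroup G} {k k' : ℕ}
  {M : NatK F (S : Subgroup G) P (zl (S : Subgroup G) P) ⊥ k}
  {M' : NatK F' (S' : Subgroup G) P' (zl (S' : Subgroup G) P') ⊥ k'} {i : Fin k} {i' : Fin k'}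

/-- **The mixed case is impossible** (CASE 1 on both sides). -/
theorem mixed_false (h : BFour M i) (h' : BFour M' i') (hl : line M i = line M' i')
    (hne : ∃ v ∈ fac M i, ∃ w ∈ fac M' i', v * w ≠ w * v)
    (h1 : ∀ g ∈ normalizer (line M i : Set G), ∀ v ∈ fac M i, ∀ w ∈ fac M i,
      v * (g * w * g⁻¹) = g * w * g⁻¹ * v)
    (h2 : ∀ g ∈ normalizer (line M i : Set G), ∀ v ∈ fac M' i', ∀ w ∈ fac M' i',
      v * (g * w * g⁻¹) = g * w * g⁻¹ * v) {j : Fin k} (hj : j ≠ i) : False := by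
  set R := line M i with hRdef
  have hfact : Fact (Nat.Prime 2) := ⟨Nat.prime_two⟩
  -- a common Sylow 2-subgroup
  have hT' : stab M' i' ≤ normalizer (R : Set G) := by
    rw [hl]; exact stab_normalizes_line M' h'.le i'
  have hT : stab M i ≤ normalizer (R : Set G) := stab_normalizes_line M h.le i
  obtain ⟨c, hc, hcT⟩ : ∃ c ∈ normalizer (R : Set G), BTwo.cj c (stab M' i') = stab M i := by
    refine exists_cj_eq hT hT' h.T2 h'.T2 h.syl ?_
    rw [hl]; exact h'.syl
  have hcR : BTwo.cj c R = R := BTwo.cj_eq_self_iff.2 hc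
  let M₁ := toRMod (pre M i)
  let M₂ : RMod F' (BTwo.cj c (fac M' i')) (BTwo.cj c (nmG (pre M' i'))) := (toRMod (pre M' i')).conj c
  have hM₂ : ∀ w, M₂.line w = BTwo.cj c ((toRMod (pre M' i')).line w) := fun w =>
    (toRMod (pre M' i')).conj_line c w
  have eLL : LL (BTwo.cj c (fac M' i')) R R = LL (fac M' i') R R := by
    have e1 := Mix.LL_conj c (fac M' i') R R
    rwa [hcR] at e1
  have cor1 := h.one.cor_nm
  have cor2 : NLFree.Cor R (fac M' i') (normalizer (R : Set G)) (nmG (pre M' i')) := by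
    have := h'.one.cor_nm
    rwa [← hl] at this
  have m : MixedT M₁ M₂ R (stab M i) := by
    refine ⟨⟨![1, 0], vec_ne, ?_⟩, ⟨![1, 0], vec_ne, ?_⟩, h.T2, stab_le_nmG h.le, ?_, hT, h.syl, ?_,
      LL_comm h1, ?_, ?_, ?_⟩
    · rw [toRMod_line, pre_line]
    · rw [hM₂, toRMod_line, pre_line, ← hl, hcR]
    · rw [← hcT]
      exact BTwo.cj_mono (stab_le_nmG h'.le)
    · exact fun K hK hK1 => Mix.char2_normalizer h.c2T hK hK1
    · rw [eLL]
      exact LL_comm h2
    · rw [eLL]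
      obtain ⟨v, hv, w, hw, hvw⟩ := hne
      exact ⟨v, Mix.V_le_LL _ _ hv, w, Mix.V_le_LL _ _ hw, hvw⟩
    · intro K hK k1 k2 k3
      have hc' : c ∈ normalizer (K : Set G) := k3 hc
      have k4 : nmG (pre M' i') ≤ normalizer (K : Set G) := by
        intro x hx
        have h3 := k2 (BTwo.conj_mem_cj (g := c) hx)
        have h4 := mul_mem (mul_mem (inv_mem hc') h3) hc'
        have e : c⁻¹ * (c * x * c⁻¹) * c = x := by group
        rwa [e] at h4
      refine NLFree.nonLoc_mixed h.c2T cor1 cor2 (fun r hr => ?_) hK k3 k1 k4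
      obtain ⟨v, hv, w, hw, hvw⟩ := hne
      have hwQ : w ∈ o2 (normalizer (line M i : Set G)) := by
        have := h'.one.fac_le_o2 hw
        rwa [← hl] at this
      obtain ⟨v', hv', e⟩ := h.one.line_le_comm hwQ ⟨v, hv, hvw⟩ hr
      exact subset_closure ⟨v', hv', w, hw, e.symm⟩
  have h5 := m.cen_le h.q4
  have h6 : fac M j ≤ R := by
    refine le_trans ?_ h5
    exact (h.one.other hj).2
  obtain ⟨x, hx, hx0⟩ := exists_fac M j ![1, 0]
  have hx1 : x = 1 := by
    have h7 : x ∈ fac M i ⊓ fac M j := ⟨line_le M i (h6 hx), hx⟩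
    rwa [fac_inf M (Ne.symm hj), mem_bot] at h7
  rw [hx1, e_one] at hx0
  have := congrFun hx0 0
  simp at this

end both

end Cfsg.Agent.Omega.IId.BigFour
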