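import Cfsg.Agent.Omega.IId.BigFour.Mixed
import Cfsg.Agent.Omega.IId.BigCut

/-!
# II.d, `WrBigFour K`: the cut (helper540)

* `Ent` : the data of CASE 1, unmixed, any number of factors; `NoBigEnt K` : impossible for `k > 2`;
* `CaseTwo K` : CASE 2: `N_S(V_i)` or `N_{S'}(V_i')` is not a Sylow 2-subgroup of `N_G(R)`; a side in CASE 1 with at
  least two factors is mixed;
* `wrBigFour_of` : `ThmC → NoTwoEnt K → NoBigEnt K → CaseTwo K → WrBigFour K`.
-/

set_option autoImplicit false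
set_option linter.unusedSectionVars false

namespace Cfsg.Agent.Omega.IId.BigFour

open Subgroup Cfsg Cfsg.Agent.ZN.ChoiceBase
open Cfsg.Agent.ZN (o2 zc zl)
open Cfsg.Agent.Omega.MinPar Cfsg.Agent.Omega.FFThm Cfsg.Agent.Omega.Frame
open Cfsg.Agent.Lib.SL2Mat
open Cfsg.Agent.Omega.NatPair (ap NatMod PreMod)
open scoped commutatorElement

universe u

/-! ### The pair -/

section pair

variable {G : Type u} [Group G] [Finite G] {F F' : Type} [Field F] [Finite F] [CharP F 2]
  [Field F'] [Finite F'] [CharP F' 2] {S S' : Sylow 2 G} {P P' : Subgroup G} {k k' : ℕ}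

/-- `R = [V, V']` is a line of one factor on each side, and these two factors do not commute. -/
theorem exists_sides (hc : IsCharacteristicTwoType G) (h : Pair S S' P P')
    (hT : NoOver (zl (S : Subgroup G) P) P) (hT' : NoOver (zl (S' : Subgroup G) P') P')
    (M : NatK F (S : Subgroup G) P (zl (S : Subgroup G) P) ⊥ k)
    (M' : NatK F' (S' : Subgroup G) P' (zl (S' : Subgroup G) P') ⊥ k') (hk' : 1 ≤ k')
    (hq : Nat.card ↥⁅zl (S : Subgroup G) P, zl (S' : Subgroup G) P'⁆ = Nat.card F) :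
    ∃ (i : Fin k) (i' : Fin k'), ⁅zl (S : Subgroup G) P, zl (S' : Subgroup G) P'⁆ = line M i ∧
      line M i = line M' i' ∧ ∃ v ∈ fac M i, ∃ w ∈ fac M' i', v * w ≠ w * v := by
  obtain ⟨I, hI⟩ := exists_ind M h.le (h.off hc hT')
  obtain ⟨I', hI'⟩ := exists_ind M' h.le' (h.symm.off hc hT)
  have hVP : zl (S' : Subgroup G) P' ≤ P := h.le.trans h.star.le
  have hVP' : zl (S : Subgroup G) P ≤ P' := h.le'.trans h.star'.le
  obtain ⟨i, hIi, hi⟩ := hI.eq_line hVP hq
  obtain ⟨i', -, hl, hact⟩ := exists_match hI hI' hVP hVP' (by omega) (i := i) (by rw [hIi]; rfl)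
  refine ⟨i, i', hi, hl, ?_⟩
  obtain ⟨v, hv, hve⟩ := exists_fac M i ![0, 1]
  obtain ⟨c, hcj, -, hca⟩ := hact v hv (by rw [hve]; exact one_ne_zero)
  obtain ⟨a, ha, hae⟩ := exists_fac M' i' ![0, 1]
  refine ⟨v, hv, a, ha, ?_⟩
  intro h0
  have h1 := (e_comm ha.1 (hVP' hv.1) hca i').2.1
  have h2 : ⁅a, v⁆ = 1 := commutatorElement_eq_one_iff_mul_comm.2 h0.symm
  rw [h2, e_one, hae] at h1
  apply hcj
  have h3 : (0 : F') = -(c i' * 1) := h1
  rw [mul_one] at h3
  exact neg_eq_zero.1 h3.symm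

/-- CASE 1 on both sides: the same number of factors -/
theorem card_eq_of_syl (h : Pair S S' P P') (M : NatK F (S : Subgroup G) P (zl (S : Subgroup G) P) ⊥ k)
    (M' : NatK F' (S' : Subgroup G) P' (zl (S' : Subgroup G) P') ⊥ k') {i : Fin k} {i' : Fin k'}
    (hl : line M i = line M' i') (hd : ¬ 2 ∣ (stab M i).relIndex (normalizer (line M i : Set G)))
    (hd' : ¬ 2 ∣ (stab M' i').relIndex (normalizer (line M' i' : Set G))) : k = k' := by
  have hSP : (S : Subgroup G) ≤ P := h.star.isLoc.le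
  have hSP' : (S' : Subgroup G) ≤ P' := h.star'.isLoc.le
  have h1 : stab M' i' ≤ normalizer (line M i : Set G) := by
    rw [hl]
    exact stab_normalizes_line M' hSP' i'
  have h2 : stab M i ≤ normalizer (line M' i' : Set G) := by
    rw [← hl]
    exact stab_normalizes_line M hSP i
  have h3 := SideOf.card_dvd_of (stab_normalizes_line M hSP i) hd (S'.isPGroup'.to_le (stab_le M' i')) h1
  have h4 := SideOf.card_dvd_of (stab_normalizes_line M' hSP' i') hd' (S.isPGroup'.to_le (stab_le M i)) h2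
  have h5 := Nat.dvd_antisymm h3 h4
  have h6 := card_stab M hSP i
  have h7 := card_stab M' hSP' i'
  have h8 : Nat.card (S : Subgroup G) = Nat.card (S' : Subgroup G) := by
    have : Fact (Nat.Prime 2) := ⟨Nat.prime_two⟩
    rw [S.card_eq_multiplicity, S'.card_eq_multiplicity]
  rw [h6, h7, h5] at h8
  exact Nat.eq_of_mul_eq_mul_right Nat.card_pos h8

end pair

/-! ### The Props -/

/-- The data of CASE 1, unmixed: `T = stab M i`, `V_i = fac M i`, `R = line M i`. -/
structure Ent (K : Cls.{u}) {G : Type u} [Group G] [Finite G] (S : Sylow 2 G) (P : Subgroup G) {F : Type} [Field F]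
    [Finite F] [CharP F 2] {k : ℕ} (M : NatK F (S : Subgroup G) P (zl (S : Subgroup G) P) ⊥ k) (i : Fin k)
    (N : NatMod F (fac M i)) : Prop where
  hyp : Hyp K S
  four : BFour M i
  /-- the coordinates -/
  e : ∀ x, M.e (N.e x) i = x
  line : N.line ![1, 0] = line M i
  /-- `T` is a Sylow 2-subgroup of `N_G(V_i)` -/
  syl : ¬ 2 ∣ (stab M i).relIndex (normalizer (fac M i : Set G))
  bts : BTwo.BTS (fac M i) (BTwo.pt N)
  cen : ∀ j, j ≠ i → fac M j ≤ BTwo.CenX (fac M i) (BTwo.pt N)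

/-- CASE 1, unmixed, two factors, is impossible (literally `IId.NoEnt K` of `IId/Fin.lean`, `WrMain4`). -/
def NoTwoEnt (K : Cls.{u}) : Prop :=
  ∀ (G : Type u) [Group G] [Finite G] (S : Sylow 2 G) (P : Subgroup G) (F : Type) [Field F] [Finite F]
    [CharP F 2] (M : NatK F (S : Subgroup G) P (zl (S : Subgroup G) P) ⊥ 2) (i j : Fin 2)
    (N : NatMod F (fac M i)), ¬ FourSide.Ent K S P M i j N

/-- CASE 1, unmixed, more than two factors, is impossible: `|CenX| ≥ q⁴`. -/
def NoBigEnt (K : Cls.{u}) : Prop :=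
  ∀ (G : Type u) [Group G] [Finite G] (S : Sylow 2 G) (P : Subgroup G) (F : Type) [Field F] [Finite F]
    [CharP F 2] (k : ℕ) (M : NatK F (S : Subgroup G) P (zl (S : Subgroup G) P) ⊥ k) (i : Fin k)
    (N : NatMod F (fac M i)), 2 < k → ¬ Ent K S P M i N

/-- The side `M i` is mixed: `⟨V_i^{N_G(R)}⟩` is abelian. -/
def MixSide {G : Type u} [Group G] {F : Type} [Field F] {S P : Subgroup G} {k : ℕ}
    (M : NatK F S P (zl S P) ⊥ k) (i : Fin k) : Prop :=
  ∀ g ∈ normalizer (line M i : Set G), ∀ v ∈ fac M i, ∀ w ∈ fac M i, v * (g * w * g⁻¹) = g * w * g⁻¹ * v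

/-- **CASE 2** for `q ≥ 4`, `k > 2`. -/
def CaseTwo (K : Cls.{u}) : Prop :=
  ∀ (G : Type u) [Group G] [Finite G] (S S' : Sylow 2 G), Hyp K S → ∀ (P P' : Subgroup G), Pair S S' P P' →
    ∀ (F F' : Type) [Field F] [Finite F] [CharP F 2] [Field F'] [Finite F'] [CharP F' 2] (k k' : ℕ)
      (M : NatK F (S : Subgroup G) P (zl (S : Subgroup G) P) ⊥ k)
      (M' : NatK F' (S' : Subgroup G) P' (zl (S' : Subgroup G) P') ⊥ k') (i : Fin k) (i' : Fin k'),
      2 < k → 1 ≤ k' → 4 ≤ Nat.card F → Nat.card F' = Nat.card F → CC M → CC M' →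
      ⁅zl (S : Subgroup G) P, zl (S' : Subgroup G) P'⁆ = line M i → line M i = line M' i' →
      (∃ v ∈ fac M i, ∃ w ∈ fac M' i', v * w ≠ w * v) →
      (¬ 2 ∣ (stab M i).relIndex (normalizer (line M i : Set G)) → MixSide M i) →
      (2 ≤ k' → ¬ 2 ∣ (stab M' i').relIndex (normalizer (line M' i' : Set G)) → MixSide M' i') →
      2 ∣ (stab M i).relIndex (normalizer (line M i : Set G)) ∨
        2 ∣ (stab M' i').relIndex (normalizer (line M' i' : Set G)) → IsKnownSimple' G

variable {K : Cls.{u}}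

/-- The unmixed case, CASE 1. -/
theorem exists_ent {G : Type u} [Group G] [Finite G] {S : Sylow 2 G} {P : Subgroup G} {F : Type}
    [Field F] [Finite F] [CharP F 2] {k : ℕ} {M : NatK F (S : Subgroup G) P (zl (S : Subgroup G) P) ⊥ k} {i : Fin k}
    (hH : Hyp K S) (h : BFour M i) (hne : ¬ MixSide M i) : ∃ N : NatMod F (fac M i), Ent K S P M i N := by
  unfold MixSide at hne
  push Not at hne
  obtain ⟨g, hg, v, hv, w, hw, hvw⟩ := hne
  obtain ⟨N, hNe, hNl, b, hc⟩ := h.bts hg ⟨v, hv, w, hw, hvw⟩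
  exact ⟨N, hH, h, hNe, hNl, h.syl_fac, b, hc⟩

/-- A side in CASE 1 with at least two factors is mixed. -/
theorem mix_of (hE : NoTwoEnt K) (hB : NoBigEnt K) {G : Type u} [Group G] [Finite G] {S : Sylow 2 G} {P : Subgroup G}
    {F : Type} [Field F] [Finite F] [CharP F 2] {k : ℕ} (hk : 2 ≤ k)
    {M : NatK F (S : Subgroup G) P (zl (S : Subgroup G) P) ⊥ k} {i : Fin k} (hH : Hyp K S)
    (h : BFour M i) : MixSide M i := by
  by_contra hne
  rcases Nat.lt_or_ge 2 k with h2 | h2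
  · obtain ⟨N, hN⟩ := exists_ent hH h hne
    exact hB G S P F k M i N h2 hN
  · obtain rfl : k = 2 := le_antisymm h2 hk
    unfold MixSide at hne
    push Not at hne
    obtain ⟨j, hij⟩ : ∃ j : Fin 2, i ≠ j := ⟨i + 1, by omega⟩
    obtain ⟨N, hN⟩ := FourSide.exists_ent hH ⟨h.c2T, h.par, h.q4, h.syl⟩ hij hne
    exact hE G S P F M i j N hN

/-- **`WrBigFour K` from the parts.** -/
theorem wrBigFour_of (hC : ThmC.{u}) (hE : NoTwoEnt K) (hB : NoBigEnt K) (h2 : CaseTwo K) : WrBigFour K := by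
  intro G _ _ S S' hH P P' hp F F' _ _ _ _ _ _ k k' M M' hk hk' h4 hF hq
  have hc := hH.ctx.char2
  obtain ⟨t, t'⟩ := hH.typed' hp
  obtain ⟨i, i', hi, hl, hne⟩ := exists_sides hc hp t.noOver t'.noOver M M' hk' hq
  have hCM : CC M := hC G hc S P hp.star F k M
  have hCM' : CC M' := hC G hc S' P' hp.star' F' k' M'
  have h4' : 4 ≤ Nat.card F' := by rw [hF]; exact h4
  have hm : ¬ 2 ∣ (stab M i).relIndex (normalizer (line M i : Set G)) → MixSide M i := fun hd =>
    mix_of hE hB (by omega) hH ⟨hc, hp.star, hCM, h4, hd⟩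
  have hm' : 2 ≤ k' → ¬ 2 ∣ (stab M' i').relIndex (normalizer (line M' i' : Set G)) → MixSide M' i' :=
    fun hk2 hd => mix_of hE hB hk2 (hH.conj S') ⟨hc, hp.star', hCM', h4', hd⟩
  by_cases hd : 2 ∣ (stab M i).relIndex (normalizer (line M i : Set G)) ∨
      2 ∣ (stab M' i').relIndex (normalizer (line M' i' : Set G))
  · exact h2 G S S' hH P P' hp F F' k k' M M' i i' hk hk' h4 hF hCM hCM' hi hl hne hm hm' hd
  · exfalso
    push Not at hd
    have hkk := card_eq_of_syl hp M M' hl hd.1 hd.2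
    have g1 := hm hd.1
    have g2 := hm' (by omega) hd.2
    obtain ⟨j, hj⟩ : ∃ j : Fin k, j ≠ i := by
      have : Nontrivial (Fin k) := Fin.nontrivial_iff_two_le.2 (by omega)
      exact exists_ne i
    have b : BFour M i := ⟨hc, hp.star, hCM, h4, hd.1⟩
    have b' : BFour M' i' := ⟨hc, hp.star', hCM', h4', hd.2⟩
    refine mixed_false b b' hl hne g1 ?_ hj
    rw [hl]
    exact g2

end Cfsg.Agent.Omega.IId.BigFour
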