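import Cfsg.Agent.Omega.IId.M4.IdOf
import Cfsg.Agent.Omega.HOneEnd.FFourFKb

/-!
# II.d, `WrBigFour`: the K-facts for `NoBigEnt` (helper43)

`NK T G₀ Xa Xb` : `Z(T ∩ G₀) = X_a X_b`; `C_{G₀}(y) = C_{G₀}(X_b)` for `1 ≠ y ∈ X_b`; `|X_b| ≤ |X_a|`.

* `nk_sp`, `nk_ffour` : `Sp_{2n}(q)` (`X_a` short, `X_b` long), `F₄(q)` (the two dominant root groups);
* **`idN`** : `EndIn T G₀ U R v ⟹ ∃ Xb, NK T G₀ R Xb`.
-/

set_option autoImplicit false
set_option linter.unusedSectionVars false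

namespace Cfsg.Agent.Omega.IId.BigFour

open Cfsg Cfsg.Agent.ClassicalGeometry.SympBasic Cfsg.Agent.ClassicalGeometry.SympAutSemi
open Cfsg.Agent.OddHalf.SpN Cfsg.Agent.OddHalf.SpN.Out
open Subgroup
open Cfsg.Agent.Nodes.TypeC
open Cfsg.Agent.KFacts.SysSp (eSp)
open Cfsg.Agent.Omega.All.SpN (Hyp0 D0 i0 i1 zz_sub mem_D0_of_fix)
open Cfsg.Agent.Omega.HOneEnd.SpIota (iota iota_inj iota_range eSp_eq cv dj_cv)
open Cfsg.Agent.Omega.HOneEnd (EndIn)
open Cfsg.Agent.Omega.HOneEnd.ThmId (thm_id)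
open Cfsg.Agent.Omega.IId.M4 (exists_hyp0 R_eq0)

/-- The K-facts used for `NoBigEnt`. -/
structure NK {G : Type*} [Group G] (T G₀ Xa Xb : Subgroup G) : Prop where
  zU : ∀ z ∈ T ⊓ G₀, T ⊓ G₀ ≤ centralizer ({z} : Set G) → ∃ x ∈ Xa, ∃ y ∈ Xb, z = x * y
  mix : ∀ x ∈ Xa, ∀ y ∈ Xb, x ≠ 1 → y ≠ 1 → G₀ ⊓ centralizer ({x * y} : Set G) ≤ normalizer (Xa : Set G)
  one : ∀ y ∈ Xb, y ≠ 1 → G₀ ⊓ centralizer ({y} : Set G) ≤ centralizer (Xb : Set G)
  card : Nat.card Xb ≤ Nat.card Xa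

section sp

variable {n : ℕ} {F : Type*} [Field F] [CharP F 2]

/-- an element commuting with a long root element `≠ 1` fixes the vector -/
theorem fix_of_comm (hn : 3 ≤ n) {A : Sy n F} {b : F} (hb : b ≠ 0) (h : A * zz hn 0 b = zz hn 0 b * A) :
    rho n F A (be n F (i0 hn)) = be n F (i0 hn) := by
  have hA := SI.of_rho A
  have hc : ∀ v, rho n F A (rho n F (zz hn 0 b) v) = rho n F (zz hn 0 b) (rho n F A v) := by
    intro v
    rw [← Equiv.Perm.mul_apply, ← Equiv.Perm.mul_apply, ← map_mul, ← map_mul, h]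
  -- `A e₀ = c e₀` with `c = (A e_{-0})_{-0}`
  set w : Ix n → F := be n F (neg (i0 hn)) with hw
  have hw0 : w (neg (i0 hn)) = 1 := by rw [hw, be_apply, if_pos rfl]
  set c : F := rho n F A w (neg (i0 hn)) with hcdef
  have h1 : rho n F A (b • be n F (i0 hn)) = (b * c) • be n F (i0 hn) := by
    have e1 : rho n F (zz hn 0 b) w = w + b • be n F (i0 hn) := by
      have h2 := zz_sub hn 0 b w
      rw [hw0, mul_one, zero_mul, zero_mul, zero_add, zero_smul, add_zero, sub_eq_iff_eq_add] at h2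
      rw [h2, add_comm]
    have e2 : rho n F (zz hn 0 b) (rho n F A w) = rho n F A w + (b * c) • be n F (i0 hn) := by
      have h2 := zz_sub hn 0 b (rho n F A w)
      rw [zero_mul, zero_mul, zero_add, zero_smul, add_zero, sub_eq_iff_eq_add] at h2
      rw [h2, add_comm]
    have h3 := hc w
    rw [e1, e2, hA.add] at h3
    exact add_left_cancel h3
  have h2 : rho n F A (be n F (i0 hn)) = c • be n F (i0 hn) := by
    have h3 := h1
    rw [hA.smul, mul_smul] at h3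
    have h4 : b • rho n F A (be n F (i0 hn)) = b • (c • be n F (i0 hn)) := h3
    have h5 := congrArg (fun x => b⁻¹ • x) h4
    simpa only [smul_smul, inv_mul_cancel_left₀ hb, inv_mul_cancel₀ hb, one_smul] using h5
  have h3 := hA.form w (be n F (i0 hn))
  rw [h2, sympForm_smul_right, form_be, form_be, hw0] at h3
  have h4 : c * c = 1 := h3
  have h5 : c = 1 := by
    have h6 : (c - 1) * (c - 1) = 0 := by
      have e : (c - 1) * (c - 1) = c * c - 1 - 2 * (c - 1) := by ring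
      rw [e, h4, CharTwo.two_eq_zero, zero_mul, sub_self, sub_zero]
    rcases mul_eq_zero.1 h6 with h7 | h7 <;> exact sub_eq_zero.1 h7
  rw [h2, h5, one_smul]

theorem nk_sp [Finite F] {G : Type*} [Group G] [Finite G] {ι : Sy n F →* G} {T : Subgroup G} (H : Hyp0 ι T)
    (hn : 3 ≤ n) : NK T ι.range ((X12 hn).map ι) ((Y1 hn).map ι) where
  zU _ hz hc := H.zU hn hz hc
  mix _ hx _ hy hx1 _ := H.mix hn hx hy hx1
  one := by
    rintro _ ⟨_, ⟨b, rfl⟩, rfl⟩ hb1 _ ⟨⟨A, rfl⟩, hA⟩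
    have hb : b ≠ 0 := by
      rintro rfl
      exact hb1 (by rw [zz_zero, map_one])
    have h1 : A * zz hn 0 b = zz hn 0 b * A := by
      apply H.inj
      rw [map_mul, map_mul]
      exact mem_centralizer_singleton_iff.1 hA
    have h2 : ι A ∈ (D0 hn).map ι := ⟨A, mem_D0_of_fix (fix_of_comm hn hb h1), rfl⟩
    rw [H.D_eq hn] at h2
    exact h2.2
  card := by
    refine le_trans ?_ (M4.card_X12 H.inj hn)
    apply Nat.card_le_card_of_surjective (fun t : F => (⟨ι (zz hn 0 t), ⟨_, ⟨t, rfl⟩, rfl⟩⟩ : ↥((Y1 hn).map ι)))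
    rintro ⟨_, ⟨_, ⟨t, rfl⟩, rfl⟩⟩
    exact ⟨t, rfl⟩

/-- **`NK` for `φ : G₀ ≃* PSp n F`**, `R` a short root group -/
theorem exists_nk_sp [Finite F] {G : Type*} [Group G] [Finite G] {T G₀ U R : Subgroup G} {v : G}
    (h : EndIn T G₀ U R v) (hn : 3 ≤ n) (φ : ↥G₀ ≃* PSp n F) {ρ : Fin n → ℤ} {a b : Fin n × Bool} (hab : a.1 ≠ b.1)
    (e : ee ρ = wt a + wt b) (hR : ∀ x : ↥G₀, (x : G) ∈ R ↔ ∃ t : F, φ x = eSp n F ρ t) :
    ∃ Xb : Subgroup G, NK T G₀ R Xb := by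
  have hfact : Fact (Nat.Prime 2) := ⟨Nat.prime_two⟩
  have hUT : U ≤ T := by rw [← h.S_inf]; exact inf_le_left
  have hRT : R ≤ T ⊓ G₀ := by rw [h.S_inf]; exact h.R_U
  have hTR : T ⊓ G₀ ≤ centralizer (R : Set G) := by rw [h.S_inf]; exact h.U_R
  have hmax : ∀ P : Subgroup G, P ≤ G₀ → IsPGroup 2 P → T ⊓ G₀ ≤ P → P ≤ T := by
    intro P hP hP2 hle
    rw [h.S_inf] at hle
    have h1 : U.relIndex P ∣ U.relIndex G₀ := by
      have := Subgroup.relIndex_mul_relIndex U P G₀ hle hP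
      exact ⟨_, this.symm⟩
    have h2 : Odd (U.relIndex P) := Odd.of_dvd_nat h.odd h1
    have h3 : U.relIndex P = 1 := by
      obtain ⟨k, hk⟩ := hP2.index (U.subgroupOf P)
      have h4 : U.relIndex P = 2 ^ k := hk
      rw [h4] at h2 ⊢
      rcases k with _ | k
      · rfl
      · exfalso
        rw [pow_succ] at h2
        exact (Nat.not_even_iff_odd.2 h2) (even_iff_two_dvd.2 ⟨2 ^ k, by ring⟩)
    exact (Subgroup.relIndex_eq_one.1 h3).trans hUT
  have hr₀ := iota_range φ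
  have hcen' : ∀ c : G, (∀ A, iota φ A * c = c * iota φ A) → c = 1 := by
    intro c hc
    have h1 : c ∈ centralizer (G₀ : Set G) := by
      rw [Subgroup.mem_centralizer_iff]
      intro g hg
      rw [SetLike.mem_coe, ← hr₀] at hg
      obtain ⟨A, rfl⟩ := hg
      exact hc A
    rwa [h.cent, Subgroup.mem_bot] at h1
  obtain ⟨ι, y, hy, hιe, hr, H⟩ := exists_hyp0 (iota_inj φ) hcen' h.S_two (by rw [hr₀]; exact h.S_G₀)
    (by rw [hr₀]; exact hmax)
  have hRι : ∀ x, x ∈ R ↔ ∃ t : F, x = iota φ (sx (cv a) (cv b) t) := by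
    intro x
    constructor
    · intro hx
      obtain ⟨t, ht⟩ := (hR ⟨x, (hRT hx).2⟩).1 hx
      refine ⟨t, ?_⟩
      rw [eSp_eq hab e] at ht
      show x = ((φ.symm (Cfsg.Agent.Omega.HOneEnd.SpIota.toP n F _) : ↥G₀) : G)
      rw [← ht, MulEquiv.symm_apply_apply]
    · rintro ⟨t, rfl⟩
      exact (hR (φ.symm (Cfsg.Agent.Omega.HOneEnd.SpIota.toP n F _))).2
        ⟨t, by rw [MulEquiv.apply_symm_apply, eSp_eq hab e]⟩
  have hrG : ι.range = G₀ := hr.trans hr₀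
  have hReq : R = (X12 hn).map ι := R_eq0 (iota_inj φ) hy hιe hr H hn (dj_cv hab) hRι
    (by rw [hrG]; exact hTR)
  have hD := nk_sp H hn
  rw [hrG, ← hReq] at hD
  exact ⟨_, hD⟩

end sp

section ffour

open Cfsg.Agent.Omega.HOneEnd.FFour Cfsg.Agent.KFacts.F4Pair Cfsg.Agent.Nodes.KindF Cfsg.Lie
open Cfsg.Agent.KFacts.F4Perf Cfsg.Agent.Nodes.BNOf Cfsg.Agent.Nodes

variable {K : Type*} [Field K] [Finite K] [CharP K 2]

/-- **`NK` for `φ : G₀ ≃* F₄(K)`**, `R` a dominant root group -/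
theorem exists_nk_ffour {G : Type*} [Group G] [Finite G] {G₀ : Subgroup G} (φ : ↥G₀ ≃* ↥(chevF4.group K))
    {T R : Subgroup G} (hT : IsPGroup 2 T)
    (hTG : T ≤ normalizer (G₀ : Set G)) (hTR : T ≤ normalizer (R : Set G)) (hR : R ≤ G₀)
    (hc : centralizer (G₀ : Set G) = ⊥)
    (hU : ((T ⊓ G₀).subgroupOf G₀).map φ.toMonoidHom = RGD.Sup (XF K) (RGD.Pos cF isType.isCartan))
    {s : Fin 4 → ℤ} (hs : Dom s) (hX : (R.subgroupOf G₀).map φ.toMonoidHom = XF K s) :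
    ∃ Xb : Subgroup G, NK T G₀ R Xb := by
  have E := emb_of φ hT hTG hTR hR hc hU hs hX
  obtain ⟨r, hr, hrs⟩ := exists_other hs
  have hXR := XG_emb φ hR hX
  have hj : (emb φ).range = G₀ := emb_range φ
  have E' : Emb (emb φ) T (normalizer ((emb φ).range : Set G)) := by rw [hj]; exact E
  have h1 := E'.fk hr hs hrs
  have h2 := E'.CG_eq hr
  rw [hj] at h2
  rw [hj, hXR] at h1
  refine ⟨XG (emb φ) r, h1.zU, h1.mix, ?_, ?_⟩
  · rintro _ ⟨y, hy, rfl⟩ hy1 g ⟨hg, hgc⟩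
    rw [← hj] at hg
    obtain ⟨x, rfl⟩ := hg
    have hy1' : y ≠ 1 := fun h => hy1 (by rw [h, map_one])
    have h3 : emb φ x ∈ CG (emb φ) r := by
      refine ⟨x, cent_X cF hr.root hy hy1' (emb_inj φ ?_), rfl⟩
      rw [map_mul, map_mul]
      exact mem_centralizer_singleton_iff.1 hgc
    rw [h2] at h3
    exact h3.2
  · rw [card_XG (emb_inj φ) hr, ← hXR, card_XG (emb_inj φ) hs]

end ffour

/-- **THEOREM ID in the form of `NK`.** -/
theorem idN {G : Type*} [Group G] [Finite G] {T G₀ U R : Subgroup G} {v : G} (h : EndIn T G₀ U R v) :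
    ∃ Xb : Subgroup G, NK T G₀ R Xb := by
  have hfact : Fact (Nat.Prime 2) := ⟨Nat.prime_two⟩
  have hR : R ≤ G₀ := h.R_U.trans (by rw [← h.S_inf]; exact inf_le_right)
  rcases thm_id h with ⟨F, i1, i2, i3, n, hn, φ, -, e2⟩ | ⟨K, i1, i2, i3, φ, e1, s, hs, e2⟩
  · have hW : Finite (CoxeterMatrix.B n).Group := Cfsg.Agent.Nodes.TypeC.finite_W (CoxeterMatrix.B n).toCoxeterSystem
    have hr := (Cfsg.Agent.Omega.HOneEnd.TwoInst.two_C (cs := (CoxeterMatrix.B n).toCoxeterSystem) hn).rρ.1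
    refine exists_nk_sp h hn φ (ρ := Cfsg.Agent.Omega.HOneEnd.TwoInst.rhoC hn) (a := (⟨0, by omega⟩, true))
      (b := (⟨1, by omega⟩, true)) (by simp) ?_ fun x => ?_
    · unfold Cfsg.Agent.Omega.HOneEnd.TwoInst.rhoC
      rw [Cfsg.Agent.Nodes.KindBC.ee_rt]
    · have h1 : (x : G) ∈ R ↔ φ x ∈ (R.subgroupOf G₀).map φ.toMonoidHom := by
        constructor
        · exact fun hx => ⟨x, mem_subgroupOf.2 hx, rfl⟩
        · rintro ⟨y, hy, e⟩
          have : y = x := φ.injective e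
          rw [← this]
          exact mem_subgroupOf.1 hy
      rw [h1, e2, (Cfsg.Agent.KFacts.SysSp.sys_PSp n F (CoxeterMatrix.B n).toCoxeterSystem).mem_X _ hr]
      exact ⟨fun ⟨t, e⟩ => ⟨t, e.symm⟩, fun ⟨t, e⟩ => ⟨t, e.symm⟩⟩
  · exact exists_nk_ffour φ h.S_two h.S_G₀ h.S_R hR h.cent (by rw [h.S_inf]; exact e1) hs e2

end Cfsg.Agent.Omega.IId.BigFour
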