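import Cfsg.Agent.Omega.ThmC.FourField
import Cfsg.Agent.Omega.IId.SemiLine
import Cfsg.Agent.Omega.IId.LineAct

/-!
# A 2-group `X ≤ N_S(V_i)` which is not trivial on some line `R_l`, `l ≠ i` (helper156; text #19381 (i), (ii))

There are `n`, `b ≠ 1` in `V^i = ∏_{l ≠ i} V_l` with `[n, X] = {1, b}`.  If `X` normalises `V_l`, then `X` acts on `R_l`
semilinearly, and `|C_{R_l}(N)| = |C_{R_l}(X)|²` for a subgroup `N ≥ C_X(R_l)` of index two (`SemiLine.card_eq`); otherwise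
`N ≥ N_X(V_l)` of index two, and `n` is a fixed point of `N` on the sum of the `V_j`, `j ∈ l^N`.
-/

set_option autoImplicit false
set_option linter.unusedSectionVars false

namespace Cfsg.Agent.Omega.IId.BigFour.Orbit2

open Subgroup Cfsg Cfsg.Agent.ZN Cfsg.Agent.Omega.IId
open Cfsg.Agent.ZN.ChoiceBase hiding mem_zc
open Cfsg.Agent.Omega.MinPar Cfsg.Agent.Omega.FFThm
open Cfsg.Agent.MinSimple.VModule (le_normalizer_zl mem_zc zc_le zc_le_zl)
open Cfsg.Agent.Omega.IId.SemiLine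

universe u

/-! ### 2-groups -/

/-- A proper subgroup of a 2-group lies in a subgroup of index 2. -/
theorem exists_index_two {G : Type*} [Group G] [Finite G] {X Y : Subgroup G} (hX : IsPGroup 2 X) (hY : Y ≤ X)
    (hne : Y ≠ X) : ∃ N : Subgroup G, Y ≤ N ∧ N ≤ X ∧ N.relIndex X = 2 := by
  have := Fact.mk Nat.prime_two
  obtain ⟨n, hn⟩ := IsPGroup.iff_card.1 hX
  have hY2 : IsPGroup 2 (Y.subgroupOf X) := hX.to_subgroup _
  obtain ⟨m, hm⟩ := IsPGroup.iff_card.1 hY2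
  have hidx1 : Y.relIndex X ≠ 1 := by
    intro h
    exact hne (le_antisymm hY (relIndex_eq_one.1 h))
  have hcard : Nat.card (Y.subgroupOf X) * Y.relIndex X = Nat.card X := card_mul_index _
  have hmn : m < n := by
    have hpos : 0 < Y.relIndex X := Nat.pos_of_ne_zero (index_ne_zero_of_finite)
    rw [hm, hn] at hcard
    have h1 : 2 ^ m < 2 ^ n := by
      rw [← hcard]
      have : 2 ≤ Y.relIndex X := by omega
      calc 2 ^ m < 2 ^ m * 2 := by
            have : 0 < 2 ^ m := by positivity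
            omega
        _ ≤ 2 ^ m * Y.relIndex X := Nat.mul_le_mul_left _ this
    exact (Nat.pow_lt_pow_iff_right (by norm_num)).1 h1
  obtain ⟨K, hK, hHK⟩ := Sylow.exists_subgroup_card_pow_prime_le (G := X) 2 (n := m) (m := n - 1)
    (by rw [hn]; exact pow_dvd_pow 2 (by omega)) (Y.subgroupOf X) hm (by omega)
  have hidx : K.index = 2 := by
    have h1 := K.card_mul_index
    rw [hK, hn] at h1
    have h2 : 2 ^ n = 2 ^ (n - 1) * 2 := by
      rw [← pow_succ]
      congr 1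
      omega
    rw [h2] at h1
    exact Nat.eq_of_mul_eq_mul_left (by positivity) h1
  refine ⟨K.map X.subtype, ?_, ?_, ?_⟩
  · intro h hh
    exact ⟨⟨h, hY hh⟩, hHK (by rw [mem_subgroupOf]; exact hh), rfl⟩
  · rintro _ ⟨k, _, rfl⟩
    exact k.2
  · have h3 : (K.map X.subtype).subgroupOf X = K := by
      ext x
      rw [mem_subgroupOf, mem_map]
      constructor
      · rintro ⟨y, hy, he⟩
        have : y = x := Subtype.ext he
        rwa [← this]
      · intro hx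
        exact ⟨x, hx, rfl⟩
    rw [relIndex, h3, hidx]

/-- If `N` has index 2 in `X` and centralises `n`, then `[n, X] ⊆ {1, [n, x₀]}`. -/
theorem two_values {G : Type*} [Group G] {X N : Subgroup G} (h2 : N.relIndex X = 2) {n x₀ : G}
    (hN : ∀ y ∈ N, y * n * y⁻¹ = n) (hx₀ : x₀ ∈ X) (hne : x₀ * n * x₀⁻¹ ≠ n) :
    ∀ x ∈ X, n * x * n⁻¹ * x⁻¹ = 1 ∨ n * x * n⁻¹ * x⁻¹ = n * x₀ * n⁻¹ * x₀⁻¹ := by
  intro x hx
  have hx₀N : x₀ ∉ N := fun h => hne (hN _ h)
  have hc : ∀ y ∈ N, y * n⁻¹ * y⁻¹ = n⁻¹ := by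
    intro y hy
    have := hN y hy
    calc y * n⁻¹ * y⁻¹ = (y * n * y⁻¹)⁻¹ := by group
      _ = n⁻¹ := by rw [this]
  by_cases hxN : x ∈ N
  · left
    have h3 := hc x hxN
    calc n * x * n⁻¹ * x⁻¹ = n * (x * n⁻¹ * x⁻¹) := by group
      _ = 1 := by rw [h3, mul_inv_cancel]
  · right
    have h3 : x₀⁻¹ * x ∈ N := by
      have h4 := (mul_mem_iff_of_index_two (H := N.subgroupOf X) h2 (a := ⟨x₀⁻¹, inv_mem hx₀⟩) (b := ⟨x, hx⟩))
      rw [mem_subgroupOf, mem_subgroupOf, mem_subgroupOf] at h4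
      refine h4.2 ⟨fun h => absurd (by simpa using h) hx₀N, fun h => absurd h hxN⟩
    have h5 := hc _ h3
    have e : x = x₀ * (x₀⁻¹ * x) := by group
    calc n * x * n⁻¹ * x⁻¹ = n * x₀ * ((x₀⁻¹ * x) * n⁻¹ * (x₀⁻¹ * x)⁻¹) * x₀⁻¹ := by group
      _ = n * x₀ * n⁻¹ * x₀⁻¹ := by rw [h5]

variable {G : Type u} [Group G] [Finite G] {F : Type} [Field F] [Finite F] [CharP F 2] {S : Sylow 2 G}
  {P : Subgroup G} {k : ℕ} (M : NatK F (S : Subgroup G) P (zl (S : Subgroup G) P) ⊥ k)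

/-! ### The coordinates of a line -/

/-- coordinates on `line M l` -/
noncomputable def lineF (l : Fin k) : LineF F (line M l) where
  e x := (exists_fac M l ![x, 0]).choose
  add x y := by
    have hx := (exists_fac M l ![x, 0]).choose_spec
    have hy := (exists_fac M l ![y, 0]).choose_spec
    have hxy := (exists_fac M l ![x + y, 0]).choose_spec
    refine ext_fac M hxy.1 (mul_mem hx.1 hy.1) ?_
    rw [hxy.2, M.mul _ hx.1.1 _ hy.1.1, Pi.add_apply, hx.2, hy.2]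
    ext j
    fin_cases j <;> simp
  inj x y h := by
    have hx := (exists_fac M l ![x, 0]).choose_spec
    have hy := (exists_fac M l ![y, 0]).choose_spec
    have h1 := hx.2.symm.trans ((congrArg (fun g => M.e g l) h).trans hy.2)
    exact congrFun h1 0
  mem g := by
    constructor
    · intro hg
      rw [mem_line] at hg
      refine ⟨M.e g l 0, ?_⟩
      have hx := (exists_fac M l ![M.e g l 0, 0]).choose_spec
      refine ext_fac M hx.1 hg.1 ?_
      rw [hx.2]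
      ext j
      fin_cases j
      · rfl
      · simpa using hg.2.symm
    · rintro ⟨x, rfl⟩
      have hx := (exists_fac M l ![x, 0]).choose_spec
      rw [mem_line]
      refine ⟨hx.1, ?_⟩
      rw [hx.2]
      rfl

theorem lineF_spec (l : Fin k) (x : F) : (lineF M l).e x ∈ fac M l ∧ M.e ((lineF M l).e x) l = ![x, 0] :=
  (exists_fac M l ![x, 0]).choose_spec

/-- The elements of `stab M l` act semilinearly on the line. -/
theorem semi (hSP : (S : Subgroup G) ≤ P) {l : Fin k} {s : G} (hs : s ∈ stab M l) : (lineF M l).Semi s := by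
  obtain ⟨τ, hτ⟩ := ThmC.FourOf.exists_tau (M := M) (hSP hs.1) hs.2
  have hline : ∀ v ∈ line M l, s * v * s⁻¹ ∈ line M l := fun v hv =>
    (mem_normalizer_iff.1 (stab_normalizes_line M hSP l hs) v).1 hv
  have h1 := lineF_spec M l 1
  have h1l : (lineF M l).e 1 ∈ line M l := (lineF M l).e_mem 1
  have h2 := hline _ h1l
  rw [mem_line] at h2
  refine ⟨M.e (s * (lineF M l).e 1 * s⁻¹) l 0, τ, fun x => ?_⟩
  have hx := lineF_spec M l x
  have hxl : (lineF M l).e x ∈ line M l := (lineF M l).e_mem x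
  have h3 := hline _ hxl
  rw [mem_line] at h3
  have h4 := lineF_spec M l (M.e (s * (lineF M l).e 1 * s⁻¹) l 0 * τ x)
  refine ext_fac M h3.1 h4.1 ?_
  have h5 := hτ _ h1.1 _ hx.1 x (by
    rw [hx.2, h1.2]
    ext j
    fin_cases j <;> simp)
  rw [h4.2, h5]
  ext j
  fin_cases j
  · simp [mul_comm]
  · simp [h2.2]

/-- **Case 1**: `X` normalises `V_l`. -/
theorem exists_one (hSP : (S : Subgroup G) ≤ P) {l : Fin k} {X : Subgroup G} (hX : X ≤ stab M l)
    (hne : ∃ r ∈ line M l, ∃ x ∈ X, x * r * x⁻¹ ≠ r) :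
    ∃ N : Subgroup G, N ≤ X ∧ N.relIndex X = 2 ∧ ∃ n ∈ line M l, (∀ y ∈ N, y * n * y⁻¹ = n) ∧
      ∃ x₀ ∈ X, x₀ * n * x₀⁻¹ ≠ n := by
  have hX2 : IsPGroup 2 X := S.isPGroup'.to_le (hX.trans (stab_le M l))
  obtain ⟨r, hr, x, hx, hxr⟩ := hne
  set R := line M l with hR
  set C := X ⊓ centralizer (R : Set G) with hC
  have hCX : C ≠ X := by
    intro h
    have h1 : x ∈ C := by rw [h]; exact hx
    have h2 := mem_centralizer_iff.1 h1.2 r hr
    apply hxr
    rw [← h2, mul_inv_cancel_right]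
  obtain ⟨N, hCN, hNX, hN2⟩ := exists_index_two hX2 inf_le_left hCX
  refine ⟨N, hNX, hN2, ?_⟩
  have hsX : ∀ a ∈ X, (lineF M l).Semi a := fun a ha => semi M hSP (hX ha)
  have e1 := (lineF M l).card_eq X hsX hX2
  have e2 := (lineF M l).card_eq N (fun a ha => hsX a (hNX ha)) (hX2.to_le hNX)
  have hCC : N ⊓ centralizer (R : Set G) = C := by
    apply le_antisymm
    · exact inf_le_inf_right _ hNX
    · exact le_inf hCN inf_le_right
  rw [← hR] at e1 e2
  rw [hCC] at e2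
  rw [← hC] at e1
  have h3 : C.relIndex N * N.relIndex X = C.relIndex X := relIndex_mul_relIndex C N X hCN hNX
  rw [hN2] at h3
  have hpos : 0 < C.relIndex N := Nat.pos_of_ne_zero index_ne_zero_of_finite
  set a := Nat.card ↥(R ⊓ centralizer (X : Set G)) with ha
  set b := Nat.card ↥(R ⊓ centralizer (N : Set G)) with hb
  have h4 : b ^ C.relIndex N = (a * a) ^ C.relIndex N := by
    rw [← e2, e1, ← h3, mul_comm (C.relIndex N) 2, pow_mul, pow_two]
  have h5 : b = a * a := Nat.pow_left_injective hpos.ne' h4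
  have ha1 : a ≠ 1 := by
    intro h
    rw [h, one_pow] at e1
    have h6 : R = ⊥ := Subgroup.card_eq_one.1 e1
    rw [h6, mem_bot] at hr
    apply hxr
    rw [hr]; group
  have hapos : 0 < a := Nat.card_pos
  have hab : a < b := by
    rw [h5]
    have : 2 ≤ a := by omega
    nlinarith
  obtain ⟨n, hn, hn'⟩ : ∃ n ∈ R ⊓ centralizer (N : Set G), n ∉ R ⊓ centralizer (X : Set G) := by
    by_contra hcon
    push Not at hcon
    have : b ≤ a := Nat.card_le_card_of_injective (inclusion hcon) (inclusion_injective hcon)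
    omega
  refine ⟨n, hn.1, fun y hy => ?_, ?_⟩
  · have := mem_centralizer_iff.1 hn.2 y hy
    rw [this, mul_inv_cancel_right]
  · by_contra hcon
    push Not at hcon
    apply hn'
    refine ⟨hn.1, mem_centralizer_iff.2 fun y hy => ?_⟩
    have := hcon y hy
    calc y * n = y * n * y⁻¹ * y := by group
      _ = n * y := by rw [this]

/-- A 2-group which normalises a nontrivial 2-group has a nontrivial fixed point. -/
theorem exists_fix {N W : Subgroup G} (hN : IsPGroup 2 N) (hW : IsPGroup 2 W) (hne : W ≠ ⊥)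
    (hn : N ≤ normalizer (W : Set G)) : ∃ n ∈ W, n ≠ 1 ∧ ∀ y ∈ N, y * n * y⁻¹ = n := by
  have := Fact.mk Nat.prime_two
  let act : MulAction N W :=
    { smul := fun y w => ⟨(y : G) * w * (y : G)⁻¹, (mem_normalizer_iff.1 (hn y.2) _).1 w.2⟩
      one_smul := fun w => Subtype.ext (by change (1 : G) * w * (1 : G)⁻¹ = w; group)
      mul_smul := fun a b w => Subtype.ext (by
        change ((a * b : N) : G) * w * ((a * b : N) : G)⁻¹ = a * (b * w * (b : G)⁻¹) * (a : G)⁻¹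
        rw [Subgroup.coe_mul]; group) }
  have hdvd : 2 ∣ Nat.card W := by
    obtain ⟨m, hm⟩ := IsPGroup.iff_card.1 hW
    rcases Nat.eq_zero_or_pos m with h0 | h0
    · rw [h0, pow_zero] at hm
      exact absurd (Subgroup.card_eq_one.1 hm) hne
    · rw [hm]; exact dvd_pow_self 2 h0.ne'
  have h0 : (1 : W) ∈ MulAction.fixedPoints N W := by
    intro a
    apply Subtype.ext
    change (a : G) * 1 * (a : G)⁻¹ = 1
    group
  obtain ⟨b, hb, hb0⟩ := hN.exists_fixed_point_of_prime_dvd_card_of_fixed_point W hdvd h0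
  refine ⟨b, b.2, fun h => hb0.symm (Subtype.ext h), fun y hy => ?_⟩
  exact congrArg Subtype.val (hb ⟨y, hy⟩)

/-- **Case 2**: `X` does not normalise `V_l`. -/
theorem exists_two (hSP : (S : Subgroup G) ≤ P) {i l : Fin k} (hl : l ≠ i) {X : Subgroup G} (hX : X ≤ stab M i)
    (hne : ¬ X ≤ normalizer (fac M l : Set G)) :
    ∃ N : Subgroup G, N ≤ X ∧ N.relIndex X = 2 ∧ ∃ n ∈ part M {i}ᶜ, (∀ y ∈ N, y * n * y⁻¹ = n) ∧
      ∃ x₀ ∈ X, x₀ * n * x₀⁻¹ ≠ n := by
  have hXS : X ≤ S := hX.trans (stab_le M i)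
  have hX2 : IsPGroup 2 X := S.isPGroup'.to_le hXS
  obtain ⟨N, hYN, hNX, hN2⟩ := exists_index_two (Y := X ⊓ normalizer (fac M l : Set G)) hX2 inf_le_left
    (fun h => hne (inf_eq_left.1 h))
  refine ⟨N, hNX, hN2, ?_⟩
  have hXP : X ≤ P := hXS.trans hSP
  have hNP : N ≤ P := hNX.trans hXP
  -- the orbit
  set O : Set (Fin k) := {j | ∃ (y : G) (hy : y ∈ N), sg M (hNP hy) l = j} with hO
  have hlO : l ∈ O := ⟨1, one_mem _, by rw [sg_eq_iff]; exact cj_one _⟩
  have hsgmul : ∀ {a b : G} (ha : a ∈ P) (hb : b ∈ P) (j : Fin k), sg M (mul_mem ha hb) j = sg M ha (sg M hb j) := by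
    intro a b ha hb j
    rw [sg_eq_iff, ← cj_cj, conj_fac M hb, conj_fac M ha]
  have hmove : ∀ {y : G} (hy : y ∈ N) {j : Fin k}, j ∈ O → sg M (hNP hy) j ∈ O := by
    rintro y hy j ⟨x, hx, rfl⟩
    exact ⟨y * x, mul_mem hy hx, hsgmul _ _ _⟩
  have hiO : O ⊆ {i}ᶜ := by
    rintro j ⟨y, hy, rfl⟩ hj
    have hyi : sg M (hNP hy) i = i := (mem_normalizer_fac_iff M (hNP hy)).1 (hX (hNX hy)).2
    rw [Set.mem_singleton_iff] at hj
    exact hl ((sg M (hNP hy)).injective (hj.trans hyi.symm))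
  have hnorm : N ≤ normalizer (part M O : Set G) := by
    intro y hy
    rw [mem_normalizer_iff_cj, conj_part M (hNP hy)]
    congr 1
    apply Set.eq_of_subset_of_ncard_le
    · rintro _ ⟨j, hj, rfl⟩
      exact hmove hy hj
    · rw [Set.ncard_image_of_injective _ (sg M (hNP hy)).injective]
    · exact Set.toFinite _
  have hW : IsPGroup 2 (part M O) := by
    have h1 : IsPGroup 2 (zl (S : Subgroup G) P) := by
      intro v
      refine ⟨1, Subtype.ext ?_⟩
      have := sq M v.2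
      change (v : G) ^ 2 ^ 1 = 1
      rw [pow_one, pow_two]; exact this
    exact h1.to_le (part_le M O)
  have hWne : part M O ≠ ⊥ := by
    intro h
    have h1 : fac M l ≤ ⊥ := h ▸ part_mono M (Set.singleton_subset_iff.2 hlO)
    exact fac_ne_bot M l (le_bot_iff.1 h1)
  obtain ⟨n, hn, hn1, hfix⟩ := exists_fix (hX2.to_le hNX) hW hWne hnorm
  have hnV : n ∈ zl (S : Subgroup G) P := hn.1
  -- all the components in the orbit are nontrivial
  have hcomp : M.e n l ≠ 0 := by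
    intro h
    apply hn1
    rw [← e_eq_zero M hnV]
    funext j
    by_cases hj : j ∈ O
    · obtain ⟨y, hy, rfl⟩ := hj
      have h1 := (sg_spec M (hNP hy) hnV l).2 h
      rwa [hfix y hy] at h1
    · exact hn.2 j hj
  refine ⟨n, part_mono M hiO hn, hfix, ?_⟩
  -- an element outside `N`
  obtain ⟨x, hx, hxN⟩ : ∃ x ∈ X, x ∉ N := by
    by_contra hcon
    push Not at hcon
    have h1 : N.relIndex X = 1 := relIndex_eq_one.2 hcon
    omega
  refine ⟨x, hx, fun h => hxN ?_⟩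
  have h1 : sg M (hXP hx) l ∈ O := by
    by_contra hj
    have h2 := hn.2 _ hj
    rw [← h] at h2
    exact hcomp ((sg_spec M (hXP hx) hnV l).1 h2)
  obtain ⟨y, hy, hyl⟩ := h1
  have h3 : y⁻¹ * x ∈ X ⊓ normalizer (fac M l : Set G) := by
    refine mem_inf.2 ⟨mul_mem (inv_mem (hNX hy)) hx, ?_⟩
    rw [mem_normalizer_iff_cj, ← cj_cj, conj_fac M (hXP hx), ← hyl, ← conj_fac M (hNP hy),
      cj_cj, inv_mul_cancel, cj_one]
  have h4 := mul_mem hy (hYN h3)
  rwa [mul_inv_cancel_left] at h4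

/-- **(i), (ii) of #19381.** -/
theorem exists_orbit_two (hSP : (S : Subgroup G) ≤ P) {i : Fin k} {X : Subgroup G} (hX : X ≤ stab M i)
    (hne : ∃ l, l ≠ i ∧ ∃ r ∈ line M l, ∃ x ∈ X, x * r * x⁻¹ ≠ r) :
    ∃ n b, n ∈ part M {i}ᶜ ∧ b ∈ part M {i}ᶜ ∧ b ≠ 1 ∧ (∃ x ∈ X, n * x * n⁻¹ * x⁻¹ = b) ∧
      ∀ x ∈ X, n * x * n⁻¹ * x⁻¹ = 1 ∨ n * x * n⁻¹ * x⁻¹ = b := by
  obtain ⟨l, hl, hr⟩ := hne
  obtain ⟨N, hNX, hN2, n, hn, hfix, x₀, hx₀, hx₀n⟩ : ∃ N : Subgroup G, N ≤ X ∧ N.relIndex X = 2 ∧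
      ∃ n ∈ part M {i}ᶜ, (∀ y ∈ N, y * n * y⁻¹ = n) ∧ ∃ x₀ ∈ X, x₀ * n * x₀⁻¹ ≠ n := by
    by_cases hn : X ≤ normalizer (fac M l : Set G)
    · obtain ⟨N, hNX, hN2, n, hn, h⟩ := exists_one M hSP (le_inf (hX.trans (stab_le M i)) hn) hr
      refine ⟨N, hNX, hN2, n, ?_, h⟩
      exact part_mono M (Set.singleton_subset_iff.2 (by simpa using hl)) (line_le M l hn)
    · exact exists_two M hSP hl hX hn
  refine ⟨n, n * x₀ * n⁻¹ * x₀⁻¹, hn, ?_, ?_, ⟨x₀, hx₀, rfl⟩, two_values hN2 hfix hx₀ hx₀n⟩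
  · have h1 : x₀ * n⁻¹ * x₀⁻¹ ∈ part M {i}ᶜ :=
      (mem_normalizer_iff.1 (stab_normalizes_compl M hSP i (hX hx₀)) _).1 (inv_mem hn)
    have h2 := mul_mem hn h1
    have e : n * (x₀ * n⁻¹ * x₀⁻¹) = n * x₀ * n⁻¹ * x₀⁻¹ := by group
    rwa [e] at h2
  · intro h
    apply hx₀n
    have e : n * x₀ * n⁻¹ * x₀⁻¹ = n * (x₀ * n * x₀⁻¹)⁻¹ := by group
    rw [e, mul_inv_eq_one] at h
    exact h.symm

end Cfsg.Agent.Omega.IId.BigFour.Orbit2
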