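import Cfsg.Agent.Omega.ThmC.TwoSeven
import Cfsg.Agent.Omega.IId.BigFour.Entry

/-!
# `O₂(N_G(R)) ≤ N_S(V_i)` without a Sylow hypothesis, any `q` (helper540)

#15785 (a) = (7) of THEOREM C with lines in place of elements: if `O₂(N_G(L))` centralises `V l` for all lines `L` of
`V i`, `i ≠ l`, and the Sylow 2-subgroup `S` permutes the `V i` transitively (and their lines), then `O₂(N_G(R)) ≤ S`
normalises all `V l`, for a line `R` of `V i₀` normalised by `N_S(V i₀)`.
-/

set_option autoImplicit false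

namespace Cfsg.Agent.Omega.IId.BigFour.Qt

open Subgroup Cfsg Cfsg.Agent.ZN Cfsg.Agent.MinSimple.Geo
open Cfsg.Agent.Omega.ThmC.TwoSeven (iSup_le_normalizer isPGroup_iSup exists_cj_le sylow_eq_of_le)

universe u

variable {G : Type u} [Group G] {ι : Type*}

/-- `W L = O₂(N_G(L))` -/
def W (L : Subgroup G) : Subgroup G := o2 (normalizer (L : Set G))

/-- `D i = ⟨W L : L a line of V i⟩` -/
def D (Λ : ι → Set (Subgroup G)) (i : ι) : Subgroup G := ⨆ L : {L : Subgroup G // L ∈ Λ i}, W L.1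

/-- `DD = ⟨D i⟩` -/
def DD (Λ : ι → Set (Subgroup G)) : Subgroup G := ⨆ i, D Λ i

theorem cj_W (g : G) (L : Subgroup G) : cj g (W L) = W (cj g L) := by
  rw [W, W, cj_o2, cj_normalizer]

theorem le_D {Λ : ι → Set (Subgroup G)} {i : ι} {L : Subgroup G} (h : L ∈ Λ i) : W L ≤ D Λ i :=
  le_iSup (fun L : {L : Subgroup G // L ∈ Λ i} => W L.1) ⟨L, h⟩

theorem D_le {Λ : ι → Set (Subgroup G)} {i : ι} {X : Subgroup G} (h : ∀ L ∈ Λ i, W L ≤ X) : D Λ i ≤ X :=
  iSup_le fun L => h L.1 L.2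

theorem cj_D {Λ : ι → Set (Subgroup G)} {i j : ι} {s : G} (h : ∀ L, L ∈ Λ i ↔ cj s L ∈ Λ j) :
    cj s (D Λ i) = D Λ j := by
  apply le_antisymm
  · rw [cj_le_iff]
    refine D_le fun L hL => ?_
    rw [← cj_le_iff, cj_W]
    exact le_D ((h L).1 hL)
  · refine D_le fun L hL => ?_
    have h1 : cj s⁻¹ L ∈ Λ i := by
      rw [h, cj_cj, mul_inv_cancel, cj_one]
      exact hL
    have h2 := le_D h1
    rwa [← cj_W, cj_le_iff, inv_inv] at h2

section main

set_option linter.unusedSectionVars false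

variable [Finite G] {V : ι → Subgroup G} {Λ : ι → Set (Subgroup G)} (S : Sylow 2 G)
  (hle : ∀ i, ∀ L ∈ Λ i, L ≤ V i)
  (hW : ∀ i l, l ≠ i → ∀ L ∈ Λ i, W L ≤ centralizer (V l : Set G))
  (hS : ∀ s ∈ S, ∀ i, ∃ j, cj s (V i) = V j ∧ ∀ L, L ∈ Λ i ↔ cj s L ∈ Λ j)
  (htr : ∀ i j, ∃ s ∈ S, cj s (V i) = V j ∧ ∀ L, L ∈ Λ i ↔ cj s L ∈ Λ j)

theorem W_two (L : Subgroup G) : IsPGroup 2 (W L) := isPGroup_o2 _

include hW in
theorem D_le_centralizer {i l : ι} (h : l ≠ i) : D Λ i ≤ centralizer (V l : Set G) :=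
  D_le fun L hL => hW i l h L hL

include hle hW in
theorem D_le_normalizer_W {i l : ι} (h : l ≠ i) {L : Subgroup G} (hL : L ∈ Λ l) :
    D Λ i ≤ normalizer (W L : Set G) := by
  have h1 : D Λ i ≤ normalizer (L : Set G) :=
    ((D_le_centralizer hW h).trans (centralizer_le (hle l L hL))).trans (centralizer_le_normalizer _)
  exact h1.trans (le_normalizer_o2 _)

include hle hW in
theorem D_le_normalizer_D (i l : ι) : D Λ i ≤ normalizer (D Λ l : Set G) := by
  by_cases h1 : l = i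
  · subst h1; exact le_normalizer
  exact iSup_le_normalizer _ _ fun L => D_le_normalizer_W hle hW h1 L.2

include hle hW in
theorem two_of_eq {i l : ι} (h1 : l ≠ i) (h : D Λ l = D Λ i) : IsPGroup 2 (D Λ l) := by
  refine isPGroup_iSup _ (fun v => W_two _) fun v w => ?_
  refine (le_D v.2).trans ?_
  rw [h]
  exact D_le_normalizer_W hle hW h1 w.2

include hle hW in
theorem DD_le_normalizer (l : ι) : DD Λ ≤ normalizer (D Λ l : Set G) :=
  iSup_le fun i => D_le_normalizer_D hle hW i l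

include hS in
theorem S_le_normalizer_DD : (S : Subgroup G) ≤ normalizer (DD Λ : Set G) := by
  have key : ∀ s ∈ S, cj s (DD Λ) ≤ DD Λ := by
    intro s hs
    rw [cj_le_iff]
    refine iSup_le fun i => ?_
    obtain ⟨j, -, h⟩ := hS s hs i
    rw [← cj_le_iff, cj_D h]
    exact le_iSup (D Λ) j
  intro s hs
  rw [mem_normalizer_iff_cj]
  refine le_antisymm (key s hs) ?_
  have := key s⁻¹ (inv_mem hs)
  rwa [cj_le_iff, inv_inv] at this

include hle hW hS htr in
/-- **(7) for lines.** -/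
theorem seven {i₀ : ι} {R : Subgroup G} (hR : R ∈ Λ i₀)
    (hT : ∀ s ∈ S, cj s (V i₀) = V i₀ → s ∈ normalizer (R : Set G)) :
    W R ≤ (S : Subgroup G) ∧ ∀ l, W R ≤ normalizer (V l : Set G) := by
  have : Fact (Nat.Prime 2) := ⟨Nat.prime_two⟩
  have hcentN : ∀ l, l ≠ i₀ → W R ≤ normalizer (V l : Set G) := fun l hl =>
    (hW i₀ l hl R hR).trans (Subgroup.centralizer_le_normalizer _)
  by_cases hd : ∀ j l, D Λ j = D Λ l → j = l
  swap
  · push Not at hd
    obtain ⟨j, l, hj, h1⟩ := hd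
    have h3 := two_of_eq hle hW h1 hj
    have h4 : ∀ l, IsPGroup 2 (D Λ l) := by
      intro l
      obtain ⟨s, hs, e1, e2⟩ := htr j l
      rw [← cj_D e2]
      exact h3.map _
    have h5 : IsPGroup 2 (DD Λ) := isPGroup_iSup _ h4 fun i l => D_le_normalizer_D hle hW i l
    have h6 : IsPGroup 2 ((S : Subgroup G) ⊔ DD Λ : Subgroup G) :=
      IsPGroup.to_sup_of_normal_right' S.isPGroup' h5 (S_le_normalizer_DD S hS)
    have h7 : DD Λ ≤ (S : Subgroup G) := by
      have := sylow_eq_of_le S h6 le_sup_left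
      exact le_sup_right.trans this.le
    have h8 : W R ≤ (S : Subgroup G) := ((le_D hR).trans (le_iSup (D Λ) i₀)).trans h7
    refine ⟨h8, fun m => ?_⟩
    by_cases hm : m = i₀
    · subst hm
      intro s hs
      rw [mem_normalizer_iff_cj]
      obtain ⟨n, hn, -⟩ := hS s (h8 hs) m
      by_cases hnm : n = m
      · rw [hnm] at hn
        exact hn
      · have h9 : cj s (V n) = V n := mem_normalizer_iff_cj.mp (hcentN n hnm hs)
        have h10 : V m = V n := by
          rw [← cj_inv_cj (g := s) (H := V m), hn]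
          calc cj s⁻¹ (V n) = cj s⁻¹ (cj s (V n)) := by rw [h9]
            _ = V n := cj_inv_cj ..
        rw [hn, ← h10]
    · exact hcentN m hm
  -- `M := S DD`, `N` the kernel of `M` on the `D`'s
  set N : Subgroup G := ⨅ i, normalizer (D Λ i : Set G) with hN
  have hmN : ∀ {g}, g ∈ N ↔ ∀ i, cj g (D Λ i) = D Λ i := by
    intro g
    rw [hN, mem_iInf]
    exact forall_congr' fun i => mem_normalizer_iff_cj
  have hDN : DD Λ ≤ N := le_iInf fun l => DD_le_normalizer hle hW l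
  set M : Subgroup G := (S : Subgroup G) ⊔ DD Λ with hM
  have hSM : (S : Subgroup G) ≤ M := le_sup_left
  have hDM : DD Λ ≤ M := le_sup_right
  have hMN : M ≤ normalizer (N : Set G) := by
    refine sup_le ?_ (hDN.trans le_normalizer)
    have key : ∀ s ∈ S, cj s N ≤ N := by
      intro s hs g hg
      rw [mem_cj, hmN] at hg
      rw [hmN]
      intro i
      obtain ⟨j, -, e⟩ := hS _ (inv_mem hs) i
      have h := cj_D e
      have h1 := hg j
      rw [← h, cj_cj] at h1
      have h2 := congrArg (cj s) h1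
      rw [cj_cj, cj_cj, mul_inv_cancel, cj_one] at h2
      have e : s * (s⁻¹ * g * s * s⁻¹) = g := by group
      rwa [e] at h2
    intro s hs
    rw [mem_normalizer_iff_cj]
    refine le_antisymm (key s hs) ?_
    have := key s⁻¹ (inv_mem hs)
    rwa [cj_le_iff, inv_inv] at this
  have hWK : W R ≤ M ⊓ N := ((le_D hR).trans (le_iSup (D Λ) i₀)).trans (le_inf hDM hDN)
  set T : Subgroup G := (S : Subgroup G) ⊓ N with hTd
  have hTV : ∀ s ∈ T, ∀ l, cj s (V l) = V l := by
    intro s hs l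
    obtain ⟨j, e1, e⟩ := hS s (mem_inf.1 hs).1 l
    have e2 := cj_D e
    rw [hmN.1 (mem_inf.1 hs).2 l] at e2
    rw [hd j l e2.symm] at e1
    exact e1
  have hTz : T ≤ normalizer (R : Set G) := fun s hs => hT s (mem_inf.1 hs).1 (hTV s hs i₀)
  have hTW : T ≤ normalizer (W R : Set G) := hTz.trans (le_normalizer_o2 _)
  have hT2 : IsPGroup 2 T := S.isPGroup'.to_le inf_le_left
  have h2 : IsPGroup 2 (T ⊔ W R : Subgroup G) := IsPGroup.to_sup_of_normal_right' hT2 (W_two R) hTW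
  have hTK : T ⊔ W R ≤ M ⊓ N := sup_le (le_inf (inf_le_left.trans hSM) inf_le_right) hWK
  have h3 : Nat.card (T ⊔ W R : Subgroup G) ≤ Nat.card T := by
    obtain ⟨c, hc, hc'⟩ := exists_cj_le S hSM h2 (hTK.trans inf_le_left)
    rw [← card_cj c]
    refine card_le_of_le (le_inf hc' ?_)
    have := cj_mono (g := c) (hTK.trans inf_le_right)
    rwa [mem_normalizer_iff_cj.mp (hMN hc)] at this
  have h4 : T = T ⊔ W R := eq_of_le_of_card_ge le_sup_left h3
  have h5 : W R ≤ T := by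
    rw [h4]
    exact le_sup_right
  exact ⟨h5.trans inf_le_left, fun l s hs => mem_normalizer_iff_cj.mpr (hTV s (h5 hs) l)⟩

end main

section inst

open Cfsg.Agent.Omega.MinPar Cfsg.Agent.Omega.FFThm Cfsg.Agent.Omega.Frame

variable [Finite G] {F : Type} [Field F] [Finite F] [CharP F 2] {S : Sylow 2 G} {P : Subgroup G} {k : ℕ}
  (M : NatK F (S : Subgroup G) P (zl (S : Subgroup G) P) ⊥ k)

/-- the lines of `fac M i`: the conjugates of the `line M j` under `P` -/
def lns (i : Fin k) : Set (Subgroup G) := {L | L ≤ fac M i ∧ ∃ g ∈ P, ∃ j, L = cj g (line M j)}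

theorem line_mem (i : Fin k) : line M i ∈ lns M i :=
  ⟨line_le M i, 1, one_mem _, i, by rw [cj_one]⟩

theorem mem_lns_iff {g : G} (hg : g ∈ P) {i j : Fin k} (h : cj g (fac M i) = fac M j) (L : Subgroup G) :
    L ∈ lns M i ↔ cj g L ∈ lns M j := by
  constructor
  · rintro ⟨h1, x, hx, l, rfl⟩
    refine ⟨?_, g * x, mul_mem hg hx, l, ?_⟩
    · rw [← h]
      exact cj_mono h1
    · rw [cj_cj]
  · rintro ⟨h1, x, hx, l, h2⟩
    refine ⟨?_, g⁻¹ * x, mul_mem (inv_mem hg) hx, l, ?_⟩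
    · rw [← h] at h1
      have := cj_mono (g := g⁻¹) h1
      rwa [cj_inv_cj, cj_inv_cj] at this
    · rw [← cj_cj, ← h2, cj_inv_cj]

theorem cjfac {g : G} (hg : g ∈ P) (i : Fin k) : cj g (fac M i) = fac M (sg M hg i) := conj_fac M hg i

variable {M}

/-- a line of `fac M i` is a conjugate of `line M j` by an element mapping `fac M j` to `fac M i` -/
theorem lns_eq {i : Fin k} {L : Subgroup G} (hL : L ∈ lns M i) :
    ∃ g ∈ P, ∃ j, L = cj g (line M j) ∧ cj g (fac M j) = fac M i := by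
  obtain ⟨h1, g, hg, j, rfl⟩ := hL
  refine ⟨g, hg, j, rfl, ?_⟩
  rw [cjfac M hg]
  congr 1
  by_contra hne
  have h2 : cj g (line M j) ≤ fac M i ⊓ fac M (sg M hg j) := by
    refine le_inf h1 ?_
    rw [← cjfac M hg]
    exact cj_mono (line_le M j)
  rw [fac_inf M (Ne.symm hne), le_bot_iff] at h2
  have h3 : line M j = ⊥ := by
    rw [← cj_inv_cj (g := g) (H := line M j), h2]
    exact Subgroup.map_bot _
  exact line_ne_bot j h3

/-- THEOREM C for all lines. -/
theorem cc_lns (hC : CC M) {i l : Fin k} (hl : l ≠ i) {L : Subgroup G} (hL : L ∈ lns M i) :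
    W L ≤ centralizer (fac M l : Set G) := by
  obtain ⟨g, hg, j, rfl, hj⟩ := lns_eq hL
  have h0 : cj g (fac M (sg M (inv_mem hg) l)) = fac M l := by
    rw [← cjfac M (inv_mem hg), cj_cj, mul_inv_cancel, cj_one]
  have h1 : sg M (inv_mem hg) l ≠ j := by
    intro e
    rw [e] at h0
    exact hl (fac_inj M (h0.symm.trans hj))
  have h2 := hC j _ h1
  rw [← cj_W, cj_le_iff]
  intro w hw
  rw [mem_cj, mem_centralizer_iff]
  intro x hx
  have h3 : g⁻¹ * x * g ∈ fac M (sg M (inv_mem hg) l) := by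
    rw [← h0, SetLike.mem_coe] at hx
    rwa [mem_cj] at hx
  have h4 := mem_centralizer_iff.1 (h2 h3) w hw
  have e1 : (g⁻¹)⁻¹ = g := inv_inv g
  rw [e1]
  calc x * (g * w * g⁻¹) = g * ((g⁻¹ * x * g) * w) * g⁻¹ := by group
    _ = g * (w * (g⁻¹ * x * g)) * g⁻¹ := by rw [h4]
    _ = g * w * g⁻¹ * x := by group

/-- **`O₂(N_G(R)) ≤ N_S(V_i)`, and it normalises all factors**, from THEOREM C. -/
theorem qt (hSP : (S : Subgroup G) ≤ P) (hC : CC M) (i : Fin k) :
    o2 (normalizer (line M i : Set G)) ≤ stab M i ∧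
      ∀ l, o2 (normalizer (line M i : Set G)) ≤ normalizer (fac M l : Set G) := by
  obtain ⟨h1, h2⟩ := seven (V := fac M) (Λ := lns M) S (fun i L hL => hL.1)
    (fun i l hl L hL => cc_lns hC hl hL)
    (fun s hs i => ⟨_, conj_fac M (hSP hs) i, mem_lns_iff M (hSP hs) (conj_fac M (hSP hs) i)⟩)
    (fun i j => by
      obtain ⟨s, hs, e⟩ := exists_trans M hSP i j
      exact ⟨s, hs, e, mem_lns_iff M (hSP hs) e⟩) (line_mem M i)
    (fun s hs e => stab_normalizes_line M hSP i ⟨hs, mem_normalizer_iff_cj.2 e⟩)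
  exact ⟨le_inf h1 (h2 i), h2⟩

end inst

end Cfsg.Agent.Omega.IId.BigFour.Qt

namespace Cfsg.Agent.Omega.IId.BigFour

open Subgroup Cfsg
open Cfsg.Agent.ZN (zl o2)
open Cfsg.Agent.Omega.MinPar Cfsg.Agent.Omega.FFThm Cfsg.Agent.Omega.Frame

universe u

variable {G : Type u} [Group G] [Finite G] {F : Type} [Field F] [Finite F] [CharP F 2]
  {S : Sylow 2 G} {P : Subgroup G} {k : ℕ}
  {M : NatK F (S : Subgroup G) P (zl (S : Subgroup G) P) ⊥ k}

/-- **`BOne` without a Sylow hypothesis.** -/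
theorem BOne.of (hc : IsCharacteristicTwoType G) (hP : IsParS (S : Subgroup G) P) (hC : CC M) (i : Fin k) :
    BOne M i where
  c2T := hc
  par := hP
  cc := hC
  QT := (Qt.qt hP.isLoc.le hC i).1

end Cfsg.Agent.Omega.IId.BigFour
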