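import Cfsg.Agent.Omega.IId.LineAct
import Cfsg.Agent.Omega.IId.Sup

/-!
# `BigFour.CaseTwo`: the ending (#19425 helper428, #19731 helper873, #19329 helper473)

`M : NatK F S P (zl S P) ⊥ k`, `T = stab M i`.

* `perm_line` : (LEMMA 3) `A ≤ T` with `{[v, a] | a ∈ A} = Z` for all `v ∈ line M i ⊕ part M {i}ᶜ` moved by `A`,
  `|Z| = |F|`, `A` centralises `line M i`: `Z` is a `line M m`, `m ≠ i`;
* `permL M` : the group of all `g` permuting the lines `line M l`;
* `not_dvd_of_perm` : if `N_G(line M i) ∩ N_G(T)` permutes the lines, then `T` is Sylow in `N_G(line M i)`.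
-/

set_option autoImplicit false
set_option linter.unusedSectionVars false

namespace Cfsg.Agent.Omega.IId.BigFour

open Subgroup Cfsg Cfsg.Agent.ZN.ChoiceBase
open Cfsg.Agent.ZN (o2 zc zl)
open Cfsg.Agent.Omega.MinPar Cfsg.Agent.Omega.FFThm

universe u

section base

variable {G : Type u} [Group G] {F : Type} [Field F] {S P : Subgroup G} {k : ℕ}
  (M : NatK F S P (zl S P) ⊥ k)

theorem line_ne_bot' (i : Fin k) : line M i ≠ ⊥ := by
  obtain ⟨v, hv, h⟩ := exists_fac M i ![1, 0]
  intro h0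
  have h1 : v ∈ line M i := (mem_line M).2 ⟨hv, by rw [h]; rfl⟩
  rw [h0, mem_bot] at h1
  rw [h1, e_one] at h
  exact one_ne_zero (congrFun h 0).symm

theorem line_inj' {i j : Fin k} (h : line M i ≤ line M j) : i = j := by
  by_contra hij
  apply line_ne_bot' M i
  rw [eq_bot_iff, ← fac_inf M hij]
  exact le_inf (line_le M i) (h.trans (line_le M j))

/-- `A` centralises `line M i` and the other factors, hence all `v` with `i`-coordinate in the line. -/
theorem cent_of_fac {A : Subgroup G} {i : Fin k} (hi : ∀ a ∈ A, ∀ r ∈ line M i, a * r = r * a)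
    (hf : ∀ m, m ≠ i → ∀ a ∈ A, ∀ r ∈ fac M m, a * r = r * a) (s : Finset (Fin k)) :
    ∀ v ∈ part M (s : Set (Fin k)), M.e v i 1 = 0 → ∀ a ∈ A, a * v = v * a := by
  classical
  induction s using Finset.induction_on with
  | empty =>
    intro v hv _ a _
    rw [Finset.coe_empty, part_empty, mem_bot] at hv
    rw [hv, mul_one, one_mul]
  | insert j s hj ih =>
    intro v hv h1 a ha
    obtain ⟨w, hw, hwe⟩ := exists_fac M j (M.e v j)
    have hvz := hv.1
    have h2 : v * w⁻¹ ∈ part M (s : Set (Fin k)) := by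
      refine ⟨mul_mem hvz (inv_mem hw.1), fun l hl => ?_⟩
      rw [M.mul v hvz _ (inv_mem hw.1), e_inv M hw.1, Pi.add_apply, Pi.neg_apply]
      by_cases hlj : l = j
      · rw [hlj, hwe, add_neg_cancel]
      · rw [hv.2 l (by simpa [hlj] using hl), hw.2 l hlj, neg_zero, add_zero]
    have h3 : M.e (v * w⁻¹) i 1 = 0 := by
      rw [M.mul v hvz _ (inv_mem hw.1), e_inv M hw.1, Pi.add_apply, Pi.add_apply, Pi.neg_apply, Pi.neg_apply, h1]
      by_cases hij : i = j
      · rw [hij, hwe, ← hij, h1, neg_zero, add_zero]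
      · rw [hw.2 i hij]
        simp
    have h4 := ih _ h2 h3 a ha
    have h5 : a * w = w * a := by
      by_cases hji : j = i
      · subst hji
        exact hi a ha w ((mem_line M).2 ⟨hw, by rw [hwe, h1]⟩)
      · exact hf j hji a ha w hw
    have e : v = v * w⁻¹ * w := by group
    calc a * v = a * (v * w⁻¹) * w := by rw [mul_assoc, ← e]
      _ = v * w⁻¹ * (a * w) := by rw [h4, mul_assoc]
      _ = v * w⁻¹ * w * a := by rw [h5, ← mul_assoc]
      _ = v * a := by rw [← e]

/-- (LEMMA 3) -/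
theorem perm_line [Finite G] [Finite F] (hSP : S ≤ P) {i : Fin k} {A Z : Subgroup G} (hA : A ≤ stab M i)
    (hZ : Nat.card Z = Nat.card F)
    (hcomm : ∀ v ∈ zl S P, M.e v i 1 = 0 → (∀ a ∈ A, a * v = v * a) ∨
      ((∀ a ∈ A, v * a * v⁻¹ * a⁻¹ ∈ Z) ∧ ∀ z ∈ Z, ∃ a ∈ A, v * a * v⁻¹ * a⁻¹ = z))
    (hAi : ∀ a ∈ A, ∀ r ∈ line M i, a * r = r * a)
    (hne : ∃ v ∈ zl S P, M.e v i 1 = 0 ∧ ∃ a ∈ A, a * v ≠ v * a)
    (hf1 : ∀ m, ∀ a ∈ A, a ∈ stab M m → (∀ r ∈ line M m, a * r = r * a) →
      ∀ v ∈ fac M m, a * v * a⁻¹ * v⁻¹ ∈ line M m) :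
    ∃ m, m ≠ i ∧ Z = line M m := by
  classical
  have hq : 2 ≤ Nat.card F := Finite.one_lt_card
  have hc0 : ∀ m, m ≠ i → ∀ v ∈ fac M m, M.e v i 1 = 0 := by
    intro m hm v hv
    rw [hv.2 i (Ne.symm hm)]
    rfl
  -- `A` normalises all factors
  have h1 : ∀ m, m ≠ i → ∀ a ∈ A, cj a (fac M m) = fac M m := by
    intro m hm a ha
    by_contra hcon
    have haS : a ∈ S := (hA ha).1
    have haP := hSP haS
    rw [conj_fac M haP] at hcon
    set m' := sg M haP m with hm'
    have hmm : m' ≠ m := fun h => hcon (by rw [h])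
    have key : ∀ v ∈ fac M m, a * v⁻¹ * a⁻¹ ∈ fac M m' := by
      intro v hv
      rw [hm', ← conj_fac M haP, mem_cj_iff]
      have e : a⁻¹ * (a * v⁻¹ * a⁻¹) * a = v⁻¹ := by group
      rw [e]
      exact inv_mem hv
    have hcc : ∀ v ∈ fac M m, v * a * v⁻¹ * a⁻¹ ∈ Z := by
      intro v hv
      rcases hcomm v hv.1 (hc0 m hm v hv) with h2 | h2
      · have h3 : v * a * v⁻¹ * a⁻¹ = 1 := by
          rw [← h2 a ha]; group
        rw [h3]
        exact one_mem _
      · exact h2.1 a ha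
    let f : fac M m → Z := fun v => ⟨v * a * (v : G)⁻¹ * a⁻¹, hcc v v.2⟩
    have hf : Function.Injective f := by
      intro v w hvw
      have h3 : (v : G) * a * (v : G)⁻¹ * a⁻¹ = w * a * (w : G)⁻¹ * a⁻¹ := congrArg Subtype.val hvw
      have h4 : (w : G)⁻¹ * v ∈ fac M m := mul_mem (inv_mem w.2) v.2
      have h5 : (w : G)⁻¹ * v = (a * (w : G)⁻¹ * a⁻¹) * (a * (v : G)⁻¹ * a⁻¹)⁻¹ := by
        have e : (w : G)⁻¹ * (v * a * (v : G)⁻¹ * a⁻¹) * (a * (v : G)⁻¹ * a⁻¹)⁻¹ = (w : G)⁻¹ * v := by group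
        rw [← e, h3]
        group
      have h6 : (w : G)⁻¹ * v ∈ fac M m' := by
        rw [h5]
        exact mul_mem (key w w.2) (inv_mem (key v v.2))
      have h7 : (w : G)⁻¹ * v = 1 := by
        have : (w : G)⁻¹ * v ∈ fac M m' ⊓ fac M m := ⟨h6, h4⟩
        rwa [fac_inf M hmm, mem_bot] at this
      exact (Subtype.ext (inv_mul_eq_one.1 h7)).symm
    have h8 := Nat.card_le_card_of_injective f hf
    rw [card_fac M, hZ, pow_two] at h8
    nlinarith
  -- a factor which is not centralised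
  obtain ⟨m, hm, v₀, hv₀, a₀, ha₀, hne₀⟩ : ∃ m, m ≠ i ∧ ∃ v ∈ fac M m, ∃ a ∈ A, a * v ≠ v * a := by
    by_contra hcon
    push Not at hcon
    obtain ⟨v, hv, hv1, a, ha, hav⟩ := hne
    apply hav
    refine cent_of_fac M hAi (fun m hm a ha r hr => hcon m hm r hr a ha) Finset.univ v ?_ hv1 a ha
    rw [Finset.coe_univ, part_univ]
    exact hv
  refine ⟨m, hm, ?_⟩
  have hfac : ∀ a ∈ A, a ∈ stab M m := fun a ha => (mem_stab M).2 ⟨(hA ha).1, h1 m hm a ha⟩
  have hall : ∀ z ∈ Z, ∃ a ∈ A, v₀ * a * v₀⁻¹ * a⁻¹ = z := by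
    rcases hcomm v₀ hv₀.1 (hc0 m hm v₀ hv₀) with h2 | h2
    · exact (hne₀ (h2 a₀ ha₀)).elim
    · exact h2.2
  have hle : Z ≤ line M m := by
    by_cases hz : ∀ r ∈ line M m, ∀ a ∈ A, a * r = r * a
    · intro z hzZ
      obtain ⟨a, ha, rfl⟩ := hall z hzZ
      have h2 := hf1 m a ha (hfac a ha) (fun r hr => hz r hr a ha) v₀ hv₀
      have e : v₀ * a * v₀⁻¹ * a⁻¹ = (a * v₀ * a⁻¹ * v₀⁻¹)⁻¹ := by group
      rw [e]
      exact inv_mem h2
    · push Not at hz
      obtain ⟨r, hr, a₁, ha₁, hra⟩ := hz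
      rcases hcomm r (line_le M m hr).1 (hc0 m hm r (line_le M m hr)) with h2 | h2
      · exact (hra (h2 a₁ ha₁)).elim
      · intro z hzZ
        obtain ⟨a, ha, rfl⟩ := h2.2 z hzZ
        have h3 := stab_normalizes_line M hSP m (hfac a ha)
        have e : r * a * r⁻¹ * a⁻¹ = r * (a * r⁻¹ * a⁻¹) := by group
        rw [e]
        exact mul_mem hr ((mem_normalizer_iff.1 h3 _).1 (inv_mem hr))
  refine eq_of_le_of_card_ge hle ?_
  rw [hZ, card_line M]

/-- The elements of `G` which permute the lines. -/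
def permL : Subgroup G where
  carrier := {g | ∀ l, ∃ m, cj g (line M l) = line M m}
  one_mem' := fun l => ⟨l, cj_one _⟩
  mul_mem' := by
    intro a b ha hb l
    obtain ⟨m, hm⟩ := hb l
    obtain ⟨n, hn⟩ := ha m
    exact ⟨n, by rw [← cj_cj, hm, hn]⟩
  inv_mem' := by
    intro a ha l
    choose f hf using ha
    have hinj : Function.Injective f := by
      intro x y hxy
      have h1 : cj a (line M x) = cj a (line M y) := by rw [hf, hf, hxy]
      have h2 := congrArg (cj a⁻¹) h1
      rw [cj_inv_cj, cj_inv_cj] at h2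
      exact line_inj' M h2.le
    obtain ⟨m, hm⟩ := (Finite.injective_iff_surjective.1 hinj) l
    refine ⟨m, ?_⟩
    rw [← hm, ← hf, cj_inv_cj]

variable {M} in
theorem mem_permL {g : G} : g ∈ permL M ↔ ∀ l, ∃ m, cj g (line M l) = line M m := Iff.rfl

theorem le_permL (hSP : S ≤ P) : S ≤ permL M := fun _ hs l => ⟨_, conj_line M hSP hs l⟩

/-- `N_{permL M}(line M i)` has index `k` in `permL M`. -/
theorem relIndex_permL (hSP : S ≤ P) (i : Fin k) :
    (permL M ⊓ normalizer (line M i : Set G)).relIndex (permL M) = k := by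
  classical
  rw [inf_relIndex_left]
  choose f hf using fun x : permL M => x.2 i
  have hsurj : Function.Surjective f := by
    intro j
    obtain ⟨t, ht, h1⟩ := exists_trans M hSP i j
    refine ⟨⟨t, le_permL M hSP ht⟩, ?_⟩
    have h2 : sg M (hSP ht) i = j := (sg_eq_iff M _).2 h1
    have h3 := hf ⟨t, le_permL M hSP ht⟩
    have h4 := conj_line M hSP ht i
    rw [h2] at h4
    exact line_inj' M (h3.symm.trans h4).le
  have hff : ∀ x y : permL M, f x = f y ↔ (x⁻¹ * y : permL M) ∈ (normalizer (line M i : Set G)).subgroupOf (permL M) := by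
    intro x y
    have h1 : f x = f y ↔ cj (x : G) (line M i) = cj (y : G) (line M i) := by
      rw [hf x, hf y]
      exact ⟨fun h => by rw [h], fun h => line_inj' M h.le⟩
    rw [h1, mem_subgroupOf, mem_normalizer_iff_cj]
    change _ ↔ cj ((x : G)⁻¹ * y) _ = _
    rw [← cj_cj]
    constructor
    · intro h
      rw [← h, cj_inv_cj]
    · intro h
      have := congrArg (cj (x : G)) h
      rw [cj_cj_inv] at this
      exact this.symm
  let q : permL M ⧸ ((normalizer (line M i : Set G)).subgroupOf (permL M)) → Fin k :=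
    fun z => Quotient.liftOn' z f fun x y hxy => (hff x y).2 (QuotientGroup.leftRel_apply.1 hxy)
  have hq : Function.Bijective q := by
    constructor
    · intro z w
      induction z using QuotientGroup.induction_on with | _ x =>
      induction w using QuotientGroup.induction_on with | _ y =>
      intro h
      exact QuotientGroup.eq.2 ((hff x y).1 h)
    · intro j
      obtain ⟨x, hx⟩ := hsurj j
      exact ⟨(QuotientGroup.mk x : permL M ⧸ ((normalizer (line M i : Set G)).subgroupOf (permL M))), hx⟩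
  rw [relIndex, index, Nat.card_congr (Equiv.ofBijective q hq), Nat.card_fin]

end base

section main

variable {G : Type u} [Group G] [Finite G] {F : Type} [Field F] {S : Sylow 2 G} {P : Subgroup G} {k : ℕ}
  (M : NatK F (S : Subgroup G) P (zl (S : Subgroup G) P) ⊥ k)

/-- **The ending**: if `N_G(line M i) ∩ N_G(stab M i)` permutes the other lines, then `stab M i` is a Sylow
2-subgroup of `N_G(line M i)`. -/
theorem not_dvd_of_perm (hSP : (S : Subgroup G) ≤ P) {i : Fin k}
    (hperm : ∀ t ∈ normalizer (line M i : Set G), t ∈ normalizer (stab M i : Set G) → ∀ l, l ≠ i →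
      ∃ m, m ≠ i ∧ cj t (line M l) = line M m) :
    ¬ 2 ∣ (stab M i).relIndex (normalizer (line M i : Set G)) := by
  have : Fact (Nat.Prime 2) := ⟨Nat.prime_two⟩
  intro hd
  have hT2 : IsPGroup 2 (stab M i) := S.isPGroup'.to_le (stab_le M i)
  obtain ⟨X, hX2, hTX, hXN, hXT⟩ := exists_bigger hT2 (stab_normalizes_line M hSP i) hd
  -- an element of `X` normalising `T`, not in `T`
  have hlt : stab M i < X := lt_iff_le_not_ge.2 ⟨hTX, hXT⟩
  obtain ⟨t, htX, htT, htN⟩ : ∃ t ∈ X, t ∉ stab M i ∧ t ∈ normalizer (stab M i : Set G) := by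
    have : Group.IsNilpotent X := hX2.isNilpotent
    have h1 : (stab M i).subgroupOf X < ⊤ := by
      rw [lt_top_iff_ne_top]
      intro h
      rw [subgroupOf_eq_top] at h
      exact hXT h
    have h2 := Group.normalizerCondition_of_isNilpotent (G := X) _ h1
    obtain ⟨⟨t, ht⟩, h3, h4⟩ := SetLike.exists_of_lt h2
    refine ⟨t, ht, fun h => h4 (mem_subgroupOf.2 h), ?_⟩
    rw [mem_normalizer_iff]
    intro y
    constructor
    · intro hy
      have h5 := (mem_normalizer_iff.1 h3 ⟨y, hTX hy⟩).1 (mem_subgroupOf.2 hy)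
      exact mem_subgroupOf.1 h5
    · intro hy
      have h6 : y ∈ X := by
        have h7 := hTX hy
        have e : y = t⁻¹ * (t * y * t⁻¹) * t := by group
        rw [e]
        exact mul_mem (mul_mem (inv_mem ht) h7) ht
      have h5 := (mem_normalizer_iff.1 h3 ⟨y, h6⟩).2 (mem_subgroupOf.2 hy)
      exact mem_subgroupOf.1 h5
  -- `Y = X ∩ N(T)` permutes the lines
  set Y : Subgroup G := X ⊓ normalizer (stab M i : Set G) with hY
  have hYL : Y ≤ permL M ⊓ normalizer (line M i : Set G) := by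
    intro y hy
    refine ⟨fun l => ?_, hXN hy.1⟩
    by_cases hl : l = i
    · refine ⟨i, ?_⟩
      rw [hl]
      exact mem_normalizer_iff_cj.1 (hXN hy.1)
    · obtain ⟨m, -, h⟩ := hperm y (hXN hy.1) hy.2 l hl
      exact ⟨m, h⟩
  have hTY : stab M i ≤ Y := le_inf hTX le_normalizer
  have hcard : Nat.card (stab M i) < Nat.card Y := by
    refine lt_of_le_of_ne (Subgroup.card_le_of_le hTY) fun h => ?_
    have h1 := eq_of_le_of_card_ge hTY h.ge
    exact htT (h1 ▸ (⟨htX, htN⟩ : t ∈ Y))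
  -- Sylow
  have e1 := card_stab M hSP i
  have e2 := Lib.SylowNormalInf.card_mul_relIndex (permL M ⊓ normalizer (line M i : Set G)) (permL M) inf_le_left
  rw [relIndex_permL M hSP i] at e2
  have e3 := Lib.SylowNormalInf.card_mul_relIndex (S : Subgroup G) (permL M) (le_permL M hSP)
  have hodd : ¬ 2 ∣ (S : Subgroup G).relIndex (permL M) := by
    intro h
    have h1 : (S : Subgroup G).relIndex (permL M) ∣ (S : Subgroup G).index :=
      relIndex_dvd_index_of_le (le_permL M hSP)
    exact S.not_dvd_index (h.trans h1)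
  have hk : 0 < k := Fin.pos i
  have hs : 0 < Nat.card (stab M i) := Nat.card_pos
  have e4 : Nat.card (permL M ⊓ normalizer (line M i : Set G) : Subgroup G) =
      Nat.card (stab M i) * (S : Subgroup G).relIndex (permL M) := by
    have h4 : Nat.card (permL M ⊓ normalizer (line M i : Set G) : Subgroup G) * k =
        Nat.card (stab M i) * (S : Subgroup G).relIndex (permL M) * k := by
      rw [e2, ← e3, e1]
      ring
    exact Nat.eq_of_mul_eq_mul_right hk h4
  have hY2 : IsPGroup 2 Y := hX2.to_le inf_le_left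
  obtain ⟨n, hn⟩ := IsPGroup.iff_card.1 hY2
  obtain ⟨m, hm⟩ := IsPGroup.iff_card.1 hT2
  have h5 : Nat.card Y ∣ Nat.card (stab M i) * (S : Subgroup G).relIndex (permL M) := by
    rw [← e4]
    exact Subgroup.card_dvd_of_le hYL
  have h6 : Nat.Coprime (Nat.card Y) ((S : Subgroup G).relIndex (permL M)) := by
    rw [hn]
    exact Nat.Coprime.pow_left _ ((Nat.Prime.coprime_iff_not_dvd Nat.prime_two).2 hodd)
  have h7 := h6.dvd_of_dvd_mul_right h5
  exact absurd (Nat.le_of_dvd hs h7) (not_le.2 hcard)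

end main

end Cfsg.Agent.Omega.IId.BigFour
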