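import Cfsg.Agent.Omega.IId.BigFour.SylTools

/-!
# II.d, `BigFour.CaseTwo`: the frame and LEMMA 2 (helper540, texts #19425, #19731)

`M : NatK F S P V ⊥ k`, `V = zl S P`, `Q = O₂(P)`, `L` an `F`-line of a factor, `Q_L = O₂(N_G(L))`,
`UU L = Z(Q_L)`, `minus M i = line M i × V^i`.

`FrH M` : characteristic 2 type, THEOREM C, `UU (line M i) ∩ C(Q) ≤ V`, full root groups.

* `FrH.lemK'` : LEMMA K;
* `FrH.minus_inv` : `t ∈ N_G(line M i)`, `stab M i` normalised by `t` ⟹ `minus M i` normalised by `t`.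
-/

set_option autoImplicit false
set_option linter.unusedSectionVars false

namespace Cfsg.Agent.Omega.IId.BigFour.SylFr

open Subgroup Cfsg Cfsg.Agent.ZN.ChoiceBase
open Cfsg.Agent.ZN (o2 zc zl)
open Cfsg.Agent.Omega.MinPar Cfsg.Agent.Omega.FFThm Cfsg.Agent.Omega.Frame
open Cfsg.Agent.Omega.NatPair (ap NatMod PreMod)
open Cfsg.Agent.Omega.IId.FourSide
open Cfsg.Agent.Omega.IId.SideOf (KR KR_le_o2 mem_KR)
open Cfsg.Agent.Omega.IId.Lns (lns)
open Cfsg.Agent.Omega.IId.BigFour.SylTools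

universe u

variable {G : Type u} [Group G]

/-- the centre of `O₂(N_G(L))` -/
def UU (L : Subgroup G) : Subgroup G :=
  o2 (normalizer (L : Set G)) ⊓ centralizer (o2 (normalizer (L : Set G)) : Set G)

theorem mem_W_cj {g x : G} {L : Subgroup G} :
    x ∈ o2 (normalizer (cj g L : Set G)) ↔ g⁻¹ * x * g ∈ o2 (normalizer (L : Set G)) := by
  have h : cj g (o2 (normalizer (L : Set G))) = o2 (normalizer (cj g L : Set G)) := Qt.cj_W g L
  rw [← h, mem_cj]

theorem mem_UU {L : Subgroup G} {y : G} : y ∈ UU L ↔ y ∈ o2 (normalizer (L : Set G)) ∧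
    ∀ x ∈ o2 (normalizer (L : Set G)), x * y = y * x := by
  rw [UU, mem_inf, mem_centralizer_iff]
  rfl

theorem le_normalizer_UU (L : Subgroup G) : normalizer (L : Set G) ≤ normalizer (UU L : Set G) := by
  apply Two.le_normalizer_of
  intro g hg y hy
  rw [mem_UU] at hy ⊢
  have h1 : ∀ x ∈ o2 (normalizer (L : Set G)), g⁻¹ * x * g ∈ o2 (normalizer (L : Set G)) := fun x hx => by
    have := (mem_normalizer_iff.1 (inv_mem (Cfsg.Agent.ZN.le_normalizer_o2 _ hg)) x).1 hx
    rwa [inv_inv] at this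
  refine ⟨(mem_normalizer_iff.1 (Cfsg.Agent.ZN.le_normalizer_o2 _ hg) y).1 hy.1, fun x hx => ?_⟩
  have h2 := hy.2 _ (h1 x hx)
  calc x * (g * y * g⁻¹) = g * (g⁻¹ * x * g * y) * g⁻¹ := by group
    _ = g * y * g⁻¹ * x := by rw [h2]; group

variable [Finite G] {F : Type} [Field F] [Finite F] [CharP F 2] {S : Sylow 2 G}
  {P : Subgroup G} {k : ℕ}

/-- the frame without `hV` -/
structure FrP (M : NatK F (S : Subgroup G) P (zl (S : Subgroup G) P) ⊥ k) : Prop where
  c2T : IsCharacteristicTwoType G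
  par : IsParS (S : Subgroup G) P
  cc : CC M
  full : ∀ j, ∀ L ∈ lns M j, ∀ v ∈ fac M j, v ∉ L → ∀ r ∈ L, ∃ w ∈ KR L, w * v * w⁻¹ * v⁻¹ = r

/-- the frame -/
structure FrH (M : NatK F (S : Subgroup G) P (zl (S : Subgroup G) P) ⊥ k) : Prop extends FrP M where
  hV : ∀ i, ∀ y ∈ o2 (normalizer (line M i : Set G)),
    (∀ x ∈ o2 (normalizer (line M i : Set G)), x * y = y * x) →
    (∀ x ∈ o2 P, x * y = y * x) → y ∈ zl (S : Subgroup G) P

/-- `line M i × V^i` -/
def minus (M : NatK F (S : Subgroup G) P (zl (S : Subgroup G) P) ⊥ k) (i : Fin k) : Subgroup G where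
  carrier := {v | v ∈ zl (S : Subgroup G) P ∧ M.e v i 1 = 0}
  one_mem' := ⟨one_mem _, by rw [e_one]; rfl⟩
  mul_mem' := by
    rintro a b ⟨ha, ha'⟩ ⟨hb, hb'⟩
    refine ⟨mul_mem ha hb, ?_⟩
    rw [M.mul a ha b hb, Pi.add_apply, Pi.add_apply, ha', hb', add_zero]
  inv_mem' := by
    rintro a ⟨ha, ha'⟩
    refine ⟨inv_mem ha, ?_⟩
    rw [e_inv M ha, Pi.neg_apply, Pi.neg_apply, ha', neg_zero]

variable {M : NatK F (S : Subgroup G) P (zl (S : Subgroup G) P) ⊥ k}

theorem mem_minus {i : Fin k} {v : G} :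
    v ∈ minus M i ↔ v ∈ zl (S : Subgroup G) P ∧ M.e v i 1 = 0 := Iff.rfl

theorem line_le_minus (i : Fin k) : line M i ≤ minus M i := fun v hv =>
  ⟨fac_le M i (line_le M i hv), ((mem_line M).1 hv).2⟩

theorem part_le_minus (i : Fin k) : part M {i}ᶜ ≤ minus M i := fun v hv =>
  ⟨hv.1, by rw [hv.2 i (by simp)]; rfl⟩

theorem fac_le_part {i m : Fin k} (h : m ≠ i) : fac M m ≤ part M {i}ᶜ :=
  part_mono M (by simpa using Ne.symm h)

/-- `part M J ≤ B` if `fac M l ≤ B` for `l ∈ J` -/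
theorem part_le_of' (M : NatK F (S : Subgroup G) P (zl (S : Subgroup G) P) ⊥ k) (s : Finset (Fin k))
    {B : Subgroup G} (hB : ∀ l ∈ s, fac M l ≤ B) : part M (s : Set (Fin k)) ≤ B := by
  classical
  induction s using Finset.induction_on with
  | empty => rw [Finset.coe_empty, part_empty]; exact bot_le
  | insert i s _ ih =>
    intro v hv
    obtain ⟨a, ha, h1, h2⟩ := exists_component M hv.1 i
    have h3 : a⁻¹ * v ∈ part M (s : Set (Fin k)) := by
      refine ⟨h2.1, fun j hj => ?_⟩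
      by_cases hji : j = i
      · rw [hji]
        exact h2.2 i (by simp)
      · rw [M.mul _ (inv_mem ha.1) _ hv.1, Pi.add_apply, e_inv M ha.1, Pi.neg_apply, ha.2 j hji, neg_zero,
          zero_add]
        refine hv.2 j fun hj' => ?_
        rcases Finset.mem_insert.1 (Finset.mem_coe.1 hj') with h4 | h4
        · exact hji h4
        · exact hj h4
    have e : v = a * (a⁻¹ * v) := by group
    rw [e]
    exact mul_mem (hB i (Finset.mem_insert_self _ _) ha)
      (ih (fun l hl => hB l (Finset.mem_insert_of_mem hl)) h3)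

theorem compl_le_of (M : NatK F (S : Subgroup G) P (zl (S : Subgroup G) P) ⊥ k) {i : Fin k}
    {B : Subgroup G} (hB : ∀ l, l ≠ i → fac M l ≤ B) : part M {i}ᶜ ≤ B := by
  classical
  have h := part_le_of' M (Finset.univ.erase i) fun l hl => hB l (Finset.ne_of_mem_erase hl)
  have e : ((Finset.univ.erase i : Finset (Fin k)) : Set (Fin k)) = {i}ᶜ := by
    ext j
    simp
  rwa [e] at h

theorem zl_le_of (M : NatK F (S : Subgroup G) P (zl (S : Subgroup G) P) ⊥ k)
    {B : Subgroup G} (hB : ∀ l, fac M l ≤ B) : zl (S : Subgroup G) P ≤ B := by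
  classical
  have h := part_le_of' M Finset.univ fun l _ => hB l
  intro v hv
  exact h ⟨hv, fun j hj => absurd (Finset.mem_coe.2 (Finset.mem_univ j)) hj⟩

/-- an element of `minus M i` is `r v` with `r ∈ line M i`, `v ∈ V^i` -/
theorem minus_le_of {i : Fin k} {B : Subgroup G} (h1 : line M i ≤ B) (h2 : part M {i}ᶜ ≤ B) :
    minus M i ≤ B := by
  intro v hv
  obtain ⟨a, ha, h3, h4⟩ := exists_component M hv.1 i
  have h5 : a ∈ line M i := (mem_line M).2 ⟨ha, by rw [h3]; exact hv.2⟩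
  have e : v = a * (a⁻¹ * v) := by group
  rw [e]
  exact mul_mem (h1 h5) (h2 h4)

namespace FrP

variable (h : FrP M)
include h

theorem SP : (S : Subgroup G) ≤ P := h.par.isLoc.le

theorem one (i : Fin k) : BOne M i := BOne.of h.c2T h.par h.cc i

theorem lns_conj {j : Fin k} {L : Subgroup G} (hL : L ∈ lns M j) :
    ∃ l ∈ grp M {j}, L = cj l (line M j) ∧ (∀ m, ∀ v ∈ fac M m, l⁻¹ * v * l ∈ fac M m) := by
  obtain ⟨l, hl, rfl⟩ := hL
  refine ⟨l, hl, rfl, fun m v hv => ?_⟩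
  have := (mem_normalizer_iff.1 (grp_normalizes M {j} {m} (inv_mem hl)) v).1 hv
  rwa [inv_inv] at this

/-- `V ≤ O₂(N_G(L))` -/
theorem fac_le_W {j : Fin k} {L : Subgroup G} (hL : L ∈ lns M j) (m : Fin k) :
    fac M m ≤ o2 (normalizer (L : Set G)) := by
  obtain ⟨l, hl, rfl, h1⟩ := h.lns_conj hL
  intro v hv
  rw [mem_W_cj]
  exact (h.one j).all_le m (h1 m v hv)

theorem zl_le_W {j : Fin k} {L : Subgroup G} (hL : L ∈ lns M j) :
    zl (S : Subgroup G) P ≤ o2 (normalizer (L : Set G)) := zl_le_of M fun m => h.fac_le_W hL m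

/-- `O₂(N_G(L))` centralises the factors different from `V_j`. -/
theorem W_comm {j m : Fin k} {L : Subgroup G} (hL : L ∈ lns M j) (hm : m ≠ j) {x v : G}
    (hx : x ∈ o2 (normalizer (L : Set G))) (hv : v ∈ fac M m) : x * v = v * x := by
  obtain ⟨l, hl, rfl, h1⟩ := h.lns_conj hL
  rw [mem_W_cj] at hx
  have h2 := mem_centralizer_iff.1 (h.cc j m hm (h1 m v hv)) _ hx
  calc x * v = l * (l⁻¹ * x * l * (l⁻¹ * v * l)) * l⁻¹ := by group
    _ = v * x := by rw [h2]; group

theorem W_comm_part {j : Fin k} {L : Subgroup G} (hL : L ∈ lns M j) {x v : G}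
    (hx : x ∈ o2 (normalizer (L : Set G))) (hv : v ∈ part M {j}ᶜ) : x * v = v * x := by
  have h1 : part M {j}ᶜ ≤ centralizer ({x} : Set G) := compl_le_of M fun m hm v hv =>
    mem_centralizer_singleton_iff.2 (h.W_comm hL hm hx hv).symm
  exact (mem_centralizer_singleton_iff.1 (h1 hv)).symm

/-- `O₂(N_G(L))` centralises `L`. -/
theorem W_comm_L {j : Fin k} {L : Subgroup G} (hL : L ∈ lns M j) {x r : G}
    (hx : x ∈ o2 (normalizer (L : Set G))) (hr : r ∈ L) : x * r = r * x := by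
  obtain ⟨l, hl, rfl, h1⟩ := h.lns_conj hL
  rw [mem_W_cj] at hx
  rw [mem_cj] at hr
  have h2 := mem_centralizer_iff.1 ((h.one j).o2_cent_line hx) _ hr
  calc x * r = l * (l⁻¹ * x * l * (l⁻¹ * r * l)) * l⁻¹ := by group
    _ = r * x := by rw [← h2]; group

theorem W_le_P {j : Fin k} {L : Subgroup G} (hL : L ∈ lns M j) : o2 (normalizer (L : Set G)) ≤ P := by
  obtain ⟨l, hl, rfl, h1⟩ := h.lns_conj hL
  intro x hx
  rw [mem_W_cj] at hx
  have h2 : l⁻¹ * x * l ∈ P := h.SP (stab_le M j ((h.one j).QT hx))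
  have e : x = l * (l⁻¹ * x * l) * l⁻¹ := by group
  have hlP : l ∈ P := grp_le M _ hl
  rw [e]
  exact mul_mem (mul_mem hlP h2) (inv_mem hlP)

theorem L_le_V {j : Fin k} {L : Subgroup G} (hL : L ∈ lns M j) : L ≤ zl (S : Subgroup G) P :=
  (Lns.lns_le hL).trans (fac_le M j)

theorem L_ne {j : Fin k} {L : Subgroup G} (hL : L ∈ lns M j) : L ≠ ⊥ := by
  obtain ⟨l, hl, rfl⟩ := hL
  intro h0
  have h1 : line M j = ⊥ := by
    rw [← cj_inv_cj l (line M j), h0]
    exact Subgroup.map_bot _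
  exact line_ne_bot j h1

theorem L_card {j : Fin k} {L : Subgroup G} (hL : L ∈ lns M j) : Nat.card L = Nat.card F := by
  obtain ⟨l, hl, rfl⟩ := hL
  rw [← card_line M j]
  exact Nat.card_congr ((line M j).equivMapOfInjective _ (MulAut.conj l).injective).toEquiv.symm

theorem KR_le_W {j : Fin k} {L : Subgroup G} (hL : L ∈ lns M j) : KR L ≤ o2 (normalizer (L : Set G)) :=
  KR_le_o2 h.c2T (h.L_ne hL) fun x hx => sq M (h.L_le_V hL hx)

/-- `Q = C_S(V)` centralises `V`. -/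
theorem Q_comm {x v : G} (hx : x ∈ o2 P) (hv : v ∈ zl (S : Subgroup G) P) : x * v = v * x := by
  rw [← IsParS.inf_centralizer S h.c2T h.par] at hx
  exact (mem_centralizer_iff.1 hx.2 v hv).symm

/-- **(F)**, first half: `Z(O₂(N_G(L))) ≤ Q`. -/
theorem UU_le_Q {j : Fin k} {L : Subgroup G} (hL : L ∈ lns M j) : UU L ≤ o2 P := by
  have hVW := h.zl_le_W hL
  have h1 : UU L ≤ centralizer (zl (S : Subgroup G) P : Set G) := by
    intro y hy
    rw [mem_centralizer_iff]
    intro v hv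
    exact (mem_UU.1 hy).2 v (hVW hv)
  have h2 : centralizer (zl (S : Subgroup G) P : Set G) ≤ normalizer (L : Set G) :=
    (centralizer_le (h.L_le_V hL)).trans (centralizer_le_normalizer _)
  have h3 : UU L ≤ o2 (centralizer (zl (S : Subgroup G) P : Set G)) :=
    Cfsg.Agent.ZN.le_o2 h1 ((MinSimple.VModule.o2_isPGroup _).to_le inf_le_left) (h2.trans (le_normalizer_UU L))
  have h4 : (S : Subgroup G) ≤ normalizer (centralizer (zl (S : Subgroup G) P : Set G) : Set G) := by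
    have h5 : (S : Subgroup G) ≤ normalizer (zl (S : Subgroup G) P : Set G) :=
      h.SP.trans (MinSimple.VModule.le_normalizer_zl _ P)
    apply Two.le_normalizer_of
    intro s hs x hx
    rw [mem_centralizer_iff] at hx ⊢
    intro v hv
    have h7 : s⁻¹ * v * s ∈ zl (S : Subgroup G) P := by
      have := (mem_normalizer_iff.1 (h5 (inv_mem hs)) v).1 hv
      rwa [inv_inv] at this
    have h8 := hx _ h7
    calc v * (s * x * s⁻¹) = s * (s⁻¹ * v * s * x) * s⁻¹ := by group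
      _ = s * x * s⁻¹ * v := by rw [h8]; group
  have h5 : (S : Subgroup G) ≤ normalizer (o2 (centralizer (zl (S : Subgroup G) P : Set G)) : Set G) := by
    intro s hs
    rw [MinSimple.Geo.mem_normalizer_iff_cj, MinSimple.Geo.cj_o2,
      MinSimple.Geo.cj_eq_of_mem_normalizer (h4 hs)]
  have h6 : o2 (centralizer (zl (S : Subgroup G) P : Set G)) ≤ (S : Subgroup G) := by
    have h7 : IsPGroup 2 ((S : Subgroup G) ⊔ o2 (centralizer (zl (S : Subgroup G) P : Set G)) : Subgroup G) :=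
      IsPGroup.to_sup_of_normal_right' S.isPGroup' (MinSimple.VModule.o2_isPGroup _) h5
    have := ThmC.TwoSeven.sylow_eq_of_le S h7 le_sup_left
    exact le_sup_right.trans this.le
  rw [← IsParS.inf_centralizer S h.c2T h.par]
  exact le_inf (h3.trans h6) h1

/-- **(F)**, second half: `Z(O₂(N_G(R_i))) ∩ C(Z(O₂(N_G(L)))) ≤ O₂(N_G(L))`, `L` a line of `V_j`, `j ≠ i`. -/
theorem mem_W_of {i j : Fin k} (hij : i ≠ j) {L : Subgroup G} (hL : L ∈ lns M j) {y : G}
    (hy : y ∈ UU (line M i)) (hc : ∀ u ∈ UU L, y * u = u * y) : y ∈ o2 (normalizer (L : Set G)) := by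
  set X : Subgroup G := centralizer (UU L : Set G) with hX
  have hLU : L ≤ UU L := fun r hr => mem_UU.2 ⟨h.zl_le_W hL (h.L_le_V hL hr), fun x hx => h.W_comm_L hL hx hr⟩
  have hVU : fac M i ≤ UU L := fun v hv => mem_UU.2 ⟨h.fac_le_W hL i hv, fun x hx => h.W_comm hL hij hx hv⟩
  have hXL : X ≤ normalizer (L : Set G) := (centralizer_le hLU).trans (centralizer_le_normalizer _)
  have hXi : X ≤ normalizer (line M i : Set G) :=
    (centralizer_le ((line_le M i).trans hVU)).trans (centralizer_le_normalizer _)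
  have hNX : normalizer (L : Set G) ≤ normalizer (X : Set G) := by
    have h5 := le_normalizer_UU L
    apply Two.le_normalizer_of
    intro s hs x hx
    rw [hX, mem_centralizer_iff] at hx ⊢
    intro v hv
    have h7 : s⁻¹ * v * s ∈ UU L := by
      have := (mem_normalizer_iff.1 (h5 (inv_mem hs)) v).1 hv
      rwa [inv_inv] at this
    have h8 := hx _ h7
    calc v * (s * x * s⁻¹) = s * (s⁻¹ * v * s * x) * s⁻¹ := by group
      _ = s * x * s⁻¹ * v := by rw [h8]; group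
  -- `UU (line M i) ∩ X` is a normal 2-subgroup of `X`
  have h1 : UU (line M i) ⊓ X ≤ o2 X := by
    refine Cfsg.Agent.ZN.le_o2 inf_le_right
      ((MinSimple.VModule.o2_isPGroup _).to_le (inf_le_left.trans inf_le_left)) ?_
    exact Half.le_normalizer_inf (hXi.trans (le_normalizer_UU _)) le_normalizer
  have h2 : o2 X ≤ o2 (normalizer (L : Set G)) := by
    refine Cfsg.Agent.ZN.le_o2 ((Cfsg.Agent.ZN.o2_le _).trans hXL) (MinSimple.VModule.o2_isPGroup _) ?_
    intro s hs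
    rw [MinSimple.Geo.mem_normalizer_iff_cj, MinSimple.Geo.cj_o2,
      MinSimple.Geo.cj_eq_of_mem_normalizer (hNX hs)]
  refine h2 (h1 ⟨hy, ?_⟩)
  rw [hX]
  exact mem_centralizer_iff.2 fun u hu => (hc u hu).symm

/-- `minus M i ≤ UU (line M i)` -/
theorem minus_le_UU (i : Fin k) : minus M i ≤ UU (line M i) := by
  have hL := Lns.line_mem_lns (M := M) i
  exact minus_le_of (fun r hr => mem_UU.2 ⟨h.zl_le_W hL (h.L_le_V hL hr), fun _ hx => h.W_comm_L hL hx hr⟩)
    fun v hv => mem_UU.2 ⟨h.zl_le_W hL hv.1, fun _ hx => h.W_comm_part hL hx hv⟩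

/-- `KR L` acts on `z ∈ V` through the component in `V_j`. -/
theorem root {j : Fin k} {L : Subgroup G} (hL : L ∈ lns M j) {z a : G} (hz : z ∈ zl (S : Subgroup G) P)
    (ha : a ∈ fac M j) (hza : a⁻¹ * z ∈ part M {j}ᶜ) (haL : a ∉ L) {r : G} (hr : r ∈ L) :
    ∃ w ∈ KR L, w * z * w⁻¹ = z * r := by
  obtain ⟨w, hw, hwa⟩ := h.full j L hL a ha haL r hr
  refine ⟨w, hw, ?_⟩
  have h1 := h.W_comm_part hL (h.KR_le_W hL hw) hza
  have h2 : w * a * w⁻¹ = r * a := by rw [← hwa]; group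
  have h3 : r * a = a * r := comm M (h.L_le_V hL hr) ha.1
  have h4 : r * (a⁻¹ * z) = a⁻¹ * z * r := comm M (h.L_le_V hL hr) hza.1
  calc w * z * w⁻¹ = (w * a * w⁻¹) * (w * (a⁻¹ * z) * w⁻¹) := by group
    _ = a * r * (a⁻¹ * z) := by rw [h2, h3, h1, mul_inv_cancel_right]
    _ = z * r := by rw [mul_assoc, h4]; group

/-- `UU (line M i) ∩ V = minus M i` -/
theorem mem_minus_of {i : Fin k} {y : G} (hy : y ∈ UU (line M i)) (hyV : y ∈ zl (S : Subgroup G) P) :
    y ∈ minus M i := by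
  refine ⟨hyV, ?_⟩
  by_contra h0
  obtain ⟨a, ha, h1, h2⟩ := exists_component M hyV i
  have haL : a ∉ line M i := fun h3 => h0 (by rw [← h1]; exact ((mem_line M).1 h3).2)
  obtain ⟨r, hr, hr1⟩ := exists_line M i
  have hL := Lns.line_mem_lns (M := M) i
  obtain ⟨w, hw, hwz⟩ := h.root hL hyV ha h2 haL hr
  have h3 := (mem_UU.1 hy).2 w (h.KR_le_W hL hw)
  rw [h3, mul_inv_cancel_right] at hwz
  exact hr1 (mul_eq_left.1 hwz.symm)

/-- `Q ≤ stab M i` -/
theorem Q_le_stab (i : Fin k) : o2 P ≤ stab M i := by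
  intro x hx
  have h1 := hx
  rw [← IsParS.inf_centralizer S h.c2T h.par] at h1
  refine mem_stab_of_fix h.SP h1.1 (line_le M i (exists_line M i).choose_spec.1)
    (exists_line M i).choose_spec.2 (h.Q_comm hx (fac_le M i (line_le M i (exists_line M i).choose_spec.1)))

end FrP

namespace FrH

variable (h : FrH M)
include h

/-- **LEMMA K.** -/
theorem lemK' {i : Fin k} {Y A : Subgroup G} (hY : Y ≤ UU (line M i))
    (hA : ∀ y ∈ Y, ∀ g ∈ o2 P, y * g * y⁻¹ * g⁻¹ ∈ A)
    (hA' : A ≤ closure {a | ∃ y ∈ Y, ∃ g ∈ o2 P, y * g * y⁻¹ * g⁻¹ = a})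
    (hmin : ∀ u ∈ o2 P, (∃ y ∈ Y, y * u ≠ u * y) → A ≤ closure {a | ∃ y ∈ Y, y * u * y⁻¹ * u⁻¹ = a})
    (hAQ : ∀ a ∈ A, ∀ g ∈ o2 P, g * a = a * g) (hcard : Nat.card A ≤ Nat.card F) : A ≤ line M i := by
  have hQU : o2 P ≤ normalizer (UU (line M i) : Set G) :=
    ((h.Q_le_stab i).trans (stab_normalizes_line M h.SP i)).trans (le_normalizer_UU _)
  have hAU : A ≤ UU (line M i) := by
    refine hA'.trans ?_
    rw [closure_le]
    rintro _ ⟨y, hy, g, hg, rfl⟩
    have h1 := (mem_normalizer_iff.1 (hQU hg) _).1 (inv_mem (hY hy))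
    have e : y * g * y⁻¹ * g⁻¹ = y * (g * y⁻¹ * g⁻¹) := by group
    rw [e]
    exact mul_mem (hY hy) h1
  intro z hz
  have hzV : z ∈ zl (S : Subgroup G) P :=
    h.hV i z (mem_UU.1 (hAU hz)).1 (mem_UU.1 (hAU hz)).2 fun x hx => hAQ z hz x hx
  have hzm : z ∈ minus M i := h.mem_minus_of (hAU hz) hzV
  have hzi : z ∈ fac M i := by
    refine ⟨hzV, fun j hj => ?_⟩
    by_contra h0
    have hji : i ≠ j := fun e => hj (by rw [e]; rfl)
    obtain ⟨a, ha, h1, h2⟩ := exists_component M hzV j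
    have ha1 : a ≠ 1 := by
      rintro rfl
      rw [e_one] at h1
      exact h0 h1.symm
    -- a line of `V_j` not containing `a`
    obtain ⟨L₁, hL₁, haL₁⟩ := Lns.exists_mem_lns ha
    obtain ⟨L, hL, hne, -⟩ := Lns.exists_third_lns hL₁ hL₁
    have haL : a ∉ L := fun h3 => ha1 (Lns.lns_inf hL₁ hL (Ne.symm hne) haL₁ h3)
    have hzL : z ∈ L := by
      refine lemK (Q := o2 P) (U := UU L) (Kr := KR L) (R := L) (Y := Y) (A := A) hA hA' hmin (h.UU_le_Q hL)
        ?_ ?_ ?_ ?_ ?_ hz (fun _ r hr => h.root hL hzV ha h2 haL hr) (hcard.trans (h.L_card hL).ge) (h.L_ne hL)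
      · intro y hy u hu
        have hyL : y ∈ normalizer (L : Set G) := by
          apply centralizer_le_normalizer
          rw [mem_centralizer_iff]
          intro r hr
          exact (mem_UU.1 (hY hy)).2 r (h.zl_le_W (Lns.line_mem_lns i) (h.L_le_V hL hr))
        have h3 := (mem_normalizer_iff.1 (le_normalizer_UU L hyL) u).1 hu
        exact mul_mem h3 (inv_mem hu)
      · intro u hu w hw
        exact (mem_UU.1 hu).2 w (h.KR_le_W hL hw)
      · intro r hr g hg
        exact (h.Q_comm hg (h.L_le_V hL hr)).symm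
      · intro hYU y hy w hw
        have h3 := h.mem_W_of hji hL (hY hy) (hYU y hy)
        have h4 := hw.2 y h3
        refine ⟨w * y * w⁻¹ * y⁻¹, h4, ?_⟩
        have h5 := h.W_comm_L hL h3 h4
        rw [h5]; group
      · intro w hw g hg
        have hwP : w ∈ P := h.W_le_P hL (h.KR_le_W hL hw)
        exact (mem_normalizer_iff.1 (Cfsg.Agent.ZN.le_normalizer_o2 P hwP) g).1 hg
    -- `z ∈ L ≤ V_j` is its own component
    have h3 : a = z := ext_fac M ha (Lns.lns_le hL hzL) h1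
    exact haL (h3 ▸ hzL)
  exact (mem_line M).2 ⟨hzi, hzm.2⟩

end FrH

/-! ### LEMMA 2 -/

/-- The subgroup `{1, a}`. -/
def two (a : G) (ha : a * a = 1) : Subgroup G where
  carrier := {x | x = 1 ∨ x = a}
  one_mem' := Or.inl rfl
  mul_mem' := by
    rintro x y (rfl | rfl) (rfl | rfl)
    · left; rw [mul_one]
    · right; rw [one_mul]
    · right; rw [mul_one]
    · left; exact ha
  inv_mem' := by
    rintro x (rfl | rfl)
    · left; rw [inv_one]
    · right; exact inv_eq_of_mul_eq_one_left ha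

theorem mem_two {a : G} (ha : a * a = 1) {x : G} : x ∈ two a ha ↔ x = 1 ∨ x = a := Iff.rfl

theorem card_two_le {a : G} (ha : a * a = 1) : Nat.card (two a ha) ≤ 2 := by
  have h1 : ((two a ha : Subgroup G) : Set G) = {1, a} := by
    ext x
    rfl
  have h2 : Nat.card (two a ha) = ({1, a} : Set G).ncard := by
    rw [← h1]
    rfl
  rw [h2]
  exact (Set.ncard_insert_le 1 {a}).trans (by rw [Set.ncard_singleton])

omit [Finite G] in
/-- A root element of `V_l` has the whole line as commutator. -/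
theorem key (hSP : (S : Subgroup G) ≤ P) {l : Fin k} {x : G} (hx : x ∈ stab M l)
    (hc : ∀ r ∈ line M l, x * r = r * x) (hcm : ∀ v ∈ fac M l, x * v * x⁻¹ * v⁻¹ ∈ line M l)
    (hne : ∃ v ∈ fac M l, v * x ≠ x * v) {r : G} (hr : r ∈ line M l) :
    ∃ v ∈ fac M l, v * x * v⁻¹ * x⁻¹ = r := by
  obtain ⟨b, hb⟩ := Lns.exists_up (hSP (stab_le M l hx))
    (fun r hr => by rw [hc r hr, mul_inv_cancel_right]) hcm
  have hwn := stab_normalizes M l hx
  have hb0 : b ≠ 0 := by
    rintro rfl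
    obtain ⟨v, hv, hvw⟩ := hne
    apply hvw
    have h1 : x * v * x⁻¹ = v := by
      refine ext_fac M ((mem_normalizer_iff.1 hwn v).1 hv) hv ?_
      rw [hb v hv, Lib.SL2Mat.up_zero, NatPair.ap_one]
    calc v * x = x * v * x⁻¹ * x := by rw [h1]
      _ = x * v := by group
  obtain ⟨v, hv, hev⟩ := exists_fac M l ![0, - M.e r l 0 / b]
  have hwv := (mem_normalizer_iff.1 hwn _).1 (inv_mem hv)
  refine ⟨v, hv, ?_⟩
  have e : v * x * v⁻¹ * x⁻¹ = v * (x * v⁻¹ * x⁻¹) := by group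
  rw [e]
  refine ext_fac M (mul_mem hv hwv) (line_le M l hr) ?_
  rw [M.mul _ hv.1 _ hwv.1, Pi.add_apply, hb _ (inv_mem hv), e_inv M hv.1, Pi.neg_apply, hev]
  apply NatPair.ext2
  · rw [Pi.add_apply, NatPair.ap_zero', Lib.SL2Mat.up_00, Lib.SL2Mat.up_01]
    simp only [Matrix.cons_val_zero, Matrix.cons_val_one, Pi.neg_apply]
    field_simp
    ring
  · rw [Pi.add_apply, NatPair.ap_one', Lib.SL2Mat.up_10, Lib.SL2Mat.up_11, ((mem_line M).1 hr).2]
    simp only [Matrix.cons_val_zero, Matrix.cons_val_one, Pi.neg_apply]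
    ring

/-- (A): helper156's `exists_orbit_two`. -/
def OrbitTwo (M : NatK F (S : Subgroup G) P (zl (S : Subgroup G) P) ⊥ k) (i : Fin k) : Prop :=
  ∀ X : Subgroup G, X ≤ stab M i → (∃ l, l ≠ i ∧ ∃ r ∈ line M l, ∃ x ∈ X, x * r * x⁻¹ ≠ r) →
    ∃ n b, n ∈ part M {i}ᶜ ∧ b ∈ part M {i}ᶜ ∧ b ≠ 1 ∧ (∃ x ∈ X, n * x * n⁻¹ * x⁻¹ = b) ∧
      ∀ x ∈ X, n * x * n⁻¹ * x⁻¹ = 1 ∨ n * x * n⁻¹ * x⁻¹ = b

namespace FrH

variable (h : FrH M)
include h

/-- **LEMMA 2.** -/
theorem minus_inv {i : Fin k} (hO : OrbitTwo M i) {t : G} (ht : t ∈ normalizer (line M i : Set G))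
    (htT : t ∈ normalizer (stab M i : Set G)) : ∀ v ∈ minus M i, t * v * t⁻¹ ∈ minus M i := by
  set X : Subgroup G := cj t⁻¹ (o2 P) with hXd
  have hX : ∀ {x}, x ∈ X ↔ t * x * t⁻¹ ∈ o2 P := by
    intro x
    rw [hXd, mem_cj, inv_inv]
  have hXT : X ≤ stab M i := fun x hx => (mem_normalizer_iff.1 htT x).2 (h.Q_le_stab i (hX.1 hx))
  have hgX : ∀ {g}, g ∈ o2 P → t⁻¹ * g * t ∈ X := by
    intro g hg
    rw [hX]
    have e : t * (t⁻¹ * g * t) * t⁻¹ = g := by group
    rwa [e]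
  have htU : ∀ {y}, y ∈ UU (line M i) → t * y * t⁻¹ ∈ UU (line M i) := fun {y} hy =>
    (mem_normalizer_iff.1 (le_normalizer_UU _ ht) y).1 hy
  have hpU : part M {i}ᶜ ≤ UU (line M i) := (part_le_minus i).trans (h.minus_le_UU i)
  -- conjugation of commutators
  have hcom : ∀ v g, t * v * t⁻¹ * g * (t * v * t⁻¹)⁻¹ * g⁻¹ =
      t * (v * (t⁻¹ * g * t) * v⁻¹ * (t⁻¹ * g * t)⁻¹) * t⁻¹ := fun v g => by group
  -- Step 1
  have s1 : ∀ l, l ≠ i → ∀ r ∈ line M l, ∀ x ∈ X, x * r = r * x := by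
    by_contra hcon
    push Not at hcon
    obtain ⟨l, hl, r, hr, x, hx, hxr⟩ := hcon
    obtain ⟨n, b, hn, hb, hb1, ⟨x₀, hx₀, hx₀b⟩, hall⟩ := hO X hXT
      ⟨l, hl, r, hr, x, hx, fun e => hxr (mul_inv_eq_iff_eq_mul.1 e)⟩
    have hnn : n * n = 1 := sq M hn.1
    have hbb : b * b = 1 := sq M hb.1
    have hy2 : t * n * t⁻¹ * (t * n * t⁻¹) = 1 := by
      have e : t * n * t⁻¹ * (t * n * t⁻¹) = t * (n * n) * t⁻¹ := by group
      rw [e, hnn]; group
    have ha2 : t * b * t⁻¹ * (t * b * t⁻¹) = 1 := by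
      have e : t * b * t⁻¹ * (t * b * t⁻¹) = t * (b * b) * t⁻¹ := by group
      rw [e, hbb]; group
    -- `X` centralises `b`
    have hXb : ∀ x ∈ X, x * b * x⁻¹ = b := by
      intro x hx
      have h1 : n * (x * x₀) * n⁻¹ * (x * x₀)⁻¹ = (n * x * n⁻¹ * x⁻¹) * (x * b * x⁻¹) := by
        rw [← hx₀b]; group
      have hne : x * b * x⁻¹ ≠ 1 := fun h0 => hb1 (by
        have e : b = x⁻¹ * (x * b * x⁻¹) * x := by group
        rw [e, h0]; group)
      rcases hall x hx with h2 | h2 <;> rcases hall _ (mul_mem hx hx₀) with h3 | h3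
      · rw [h1, h2, one_mul] at h3
        exact absurd h3 hne
      · rw [h1, h2, one_mul] at h3
        exact h3
      · rw [h1, h2] at h3
        have h4 := eq_inv_of_mul_eq_one_right h3
        rw [h4]
        exact inv_eq_of_mul_eq_one_left hbb
      · rw [h1, h2] at h3
        exact absurd (mul_eq_left.1 h3) hne
    have hle := h.lemK' (i := i) (Y := two _ hy2) (A := two _ ha2) ?_ ?_ ?_ ?_ ?_ ?_
    · have h1 : t * b * t⁻¹ ∈ line M i := hle (Or.inr rfl)
      have h2 : b ∈ line M i := (mem_normalizer_iff.1 ht b).2 h1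
      apply hb1
      rw [← e_eq_zero M hb.1]
      funext j
      by_cases hj : j = i
      · rw [hj]
        exact hb.2 i (by simp)
      · exact (line_le M i h2).2 j hj
    · rintro y (rfl | rfl)
      · exact one_mem _
      · exact htU (hpU hn)
    · rintro y (rfl | rfl) g hg
      · left; group
      · rw [hcom]
        rcases hall _ (hgX hg) with h1 | h1
        · left; rw [h1]; group
        · right; rw [h1]
    · rintro a (rfl | rfl)
      · exact one_mem _
      · refine subset_closure ⟨_, Or.inr rfl, t * x₀ * t⁻¹, hX.1 hx₀, ?_⟩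
        rw [← hx₀b]; group
    · rintro u hu ⟨y, hy, hyu⟩
      rcases hy with rfl | rfl
      · exact absurd (by rw [one_mul, mul_one]) hyu
      · rintro a (rfl | rfl)
        · exact one_mem _
        · refine subset_closure ⟨_, Or.inr rfl, ?_⟩
          rw [hcom]
          rcases hall _ (hgX hu) with h1 | h1
          · exfalso
            apply hyu
            have h2 := hcom n u
            rw [h1, mul_one, mul_inv_cancel] at h2
            have h3 := mul_inv_eq_one.1 h2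
            exact mul_inv_eq_iff_eq_mul.1 h3
          · rw [h1]
    · rintro a (rfl | rfl) g hg
      · rw [one_mul, mul_one]
      · have h1 := hXb _ (hgX hg)
        have h2 : g * (t * b * t⁻¹) * g⁻¹ = t * (t⁻¹ * g * t * b * (t⁻¹ * g * t)⁻¹) * t⁻¹ := by group
        rw [h1] at h2
        exact mul_inv_eq_iff_eq_mul.1 h2
    · refine (card_two_le ha2).trans ?_
      exact Finite.one_lt_card
  -- Step 2
  have s2 : ∀ l, l ≠ i → ∀ v ∈ fac M l, ∀ x ∈ X, x * v = v * x := by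
    by_contra hcon
    push Not at hcon
    obtain ⟨l, hl, v₀, hv₀, x₀, hx₀, hne⟩ := hcon
    have hXS : X ≤ (S : Subgroup G) := hXT.trans (stab_le M i)
    have hXl : X ≤ stab M l := le_stab_of_fix h.SP hXS (s1 l hl)
    have hcm : ∀ x ∈ X, ∀ v ∈ fac M l, x * v * x⁻¹ * v⁻¹ ∈ line M l := fun x hx =>
      comm_line h.SP (hXl hx) fun r hr => s1 l hl r hr x hx
    have hcm' : ∀ x ∈ X, ∀ v ∈ fac M l, v * x * v⁻¹ * x⁻¹ ∈ line M l := by
      intro x hx v hv
      have h1 := hcm x hx _ (inv_mem hv)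
      have h2 : x * v⁻¹ * x⁻¹ ∈ fac M l :=
        (mem_normalizer_iff.1 (stab_normalizes M l (hXl hx)) _).1 (inv_mem hv)
      have h3 : v * (x * v⁻¹ * x⁻¹) = x * v⁻¹ * x⁻¹ * v := comm M hv.1 h2.1
      have e : v * x * v⁻¹ * x⁻¹ = x * v⁻¹ * x⁻¹ * v⁻¹⁻¹ := by
        rw [inv_inv, ← h3]; group
      rw [e]
      exact h1
    have hkey : ∀ x ∈ X, (∃ v ∈ fac M l, v * x ≠ x * v) → ∀ r ∈ line M l,
        ∃ v ∈ fac M l, v * x * v⁻¹ * x⁻¹ = r := fun x hx hv r hr =>
      key h.SP (hXl hx) (fun r hr => s1 l hl r hr x hx) (hcm x hx) hv hr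
    have hgen : ∀ u ∈ o2 P, (∃ y ∈ cj t (fac M l), y * u ≠ u * y) →
        cj t (line M l) ≤ closure {a | ∃ y ∈ cj t (fac M l), y * u * y⁻¹ * u⁻¹ = a} := by
      rintro u hu ⟨y, hy, hyu⟩
      rw [mem_cj] at hy
      intro a ha
      rw [mem_cj] at ha
      obtain ⟨v, hv, hvx⟩ := hkey _ (hgX hu) ⟨_, hy, fun e => hyu (by
        calc y * u = t * (t⁻¹ * y * t * (t⁻¹ * u * t)) * t⁻¹ := by group
          _ = u * y := by rw [e]; group)⟩ _ ha
      refine subset_closure ⟨t * v * t⁻¹, ?_, ?_⟩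
      · rw [mem_cj]
        have e : t⁻¹ * (t * v * t⁻¹) * t = v := by group
        rwa [e]
      · rw [hcom, hvx]; group
    have hle := h.lemK' (i := i) (Y := cj t (fac M l)) (A := cj t (line M l)) ?_ ?_ ?_ hgen ?_ ?_
    · obtain ⟨r, hr, hr1⟩ := exists_line M l
      have h1 : t * r * t⁻¹ ∈ line M i := hle (by
        rw [mem_cj]
        have e : t⁻¹ * (t * r * t⁻¹) * t = r := by group
        rwa [e])
      have h2 : r ∈ line M i := (mem_normalizer_iff.1 ht r).2 h1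
      have h3 : r ∈ fac M l ⊓ fac M i := ⟨line_le M l hr, line_le M i h2⟩
      rw [fac_inf M hl, mem_bot] at h3
      exact hr1 h3
    · intro y hy
      rw [mem_cj] at hy
      have h1 := htU (hpU (fac_le_part hl hy))
      have e : t * (t⁻¹ * y * t) * t⁻¹ = y := by group
      rwa [e] at h1
    · intro y hy g hg
      rw [mem_cj] at hy
      rw [mem_cj]
      have e : t⁻¹ * (y * g * y⁻¹ * g⁻¹) * t =
          t⁻¹ * y * t * (t⁻¹ * g * t) * (t⁻¹ * y * t)⁻¹ * (t⁻¹ * g * t)⁻¹ := by group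
      rw [e]
      exact hcm' _ (hgX hg) _ hy
    · refine (hgen (t * x₀ * t⁻¹) (hX.1 hx₀) ⟨t * v₀ * t⁻¹, ?_, ?_⟩).trans ?_
      · rw [mem_cj]
        have e : t⁻¹ * (t * v₀ * t⁻¹) * t = v₀ := by group
        rwa [e]
      · intro e
        apply hne
        have e1 : t⁻¹ * (t * v₀ * t⁻¹ * (t * x₀ * t⁻¹)) * t = v₀ * x₀ := by group
        have e2 : t⁻¹ * (t * x₀ * t⁻¹ * (t * v₀ * t⁻¹)) * t = x₀ * v₀ := by group
        rw [← e1, ← e2, e]
      · rw [closure_le]
        rintro _ ⟨y, hy, rfl⟩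
        exact subset_closure ⟨y, hy, _, hX.1 hx₀, rfl⟩
    · intro a ha g hg
      rw [mem_cj] at ha
      have h1 := s1 l hl _ ha _ (hgX hg)
      calc g * a = t * (t⁻¹ * g * t * (t⁻¹ * a * t)) * t⁻¹ := by group
        _ = a * g := by rw [h1]; group
    · have h1 : Nat.card (cj t (line M l)) = Nat.card (line M l) :=
        Nat.card_congr ((line M l).equivMapOfInjective _ (MulAut.conj t).injective).toEquiv.symm
      rw [h1, card_line]
  -- Step 3
  intro v hv
  have s3 : ∀ x ∈ X, x * v = v * x := by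
    intro x hx
    have h1 : minus M i ≤ centralizer ({x} : Set G) := by
      refine minus_le_of (fun r hr => ?_) (compl_le_of M fun m hm v hv => ?_)
      · rw [mem_centralizer_singleton_iff]
        have h2 := h.Q_comm (hX.1 hx) (fac_le M i (line_le M i ((mem_normalizer_iff.1 ht r).1 hr)))
        calc r * x = t⁻¹ * (t * r * t⁻¹ * (t * x * t⁻¹)) * t := by group
          _ = x * r := by rw [← h2]; group
      · rw [mem_centralizer_singleton_iff]
        exact (s2 m hm v hv x hx).symm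
    exact (mem_centralizer_singleton_iff.1 (h1 hv)).symm
  have hU := htU (h.minus_le_UU i hv)
  refine h.mem_minus_of hU (h.hV i _ (mem_UU.1 hU).1 (mem_UU.1 hU).2 fun g hg => ?_)
  have h1 := s3 _ (hgX hg)
  calc g * (t * v * t⁻¹) = t * (t⁻¹ * g * t * v) * t⁻¹ := by group
    _ = t * v * t⁻¹ * g := by rw [h1]; group

end FrH

end Cfsg.Agent.Omega.IId.BigFour.SylFr
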