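import Cfsg.Agent.Omega.IId.BigFour.Mixed
import Cfsg.Agent.Omega.IId.BigFour.Qt

/-!
# II.d, `BigFour.CaseTwo`: tools (helper540, text #19731 of helper873)

* `comm_line` : an element of `N_S(V_l)` centralising the line acts on `V_l` as a root element;
* `mem_stab_of_fix` : an element of `S` centralising an element `≠ 1` of the line of `V_l` normalises `V_l`;
* `lemK` : LEMMA K, abstract;
* `syl_one` : `k = 1`: `N_S(V_i) = S` is a Sylow 2-subgroup of `N_G(R)`.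
-/

set_option autoImplicit false
set_option linter.unusedSectionVars false

namespace Cfsg.Agent.Omega.IId.BigFour.SylTools

open Subgroup Cfsg Cfsg.Agent.ZN.ChoiceBase
open Cfsg.Agent.ZN (o2 zc zl)
open Cfsg.Agent.Omega.MinPar Cfsg.Agent.Omega.FFThm Cfsg.Agent.Omega.Frame
open Cfsg.Agent.Omega.NatPair (ap NatMod PreMod)
open Cfsg.Agent.Omega.IId.FourSide
open Cfsg.Agent.Omega.Mix (RMod)
open Cfsg.Agent.Omega.IId.M4 (toRMod toRMod_line nmG)
open scoped commutatorElement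

universe u

section tools

variable {G : Type u} [Group G] [Finite G] {F : Type} [Field F] [Finite F] [CharP F 2] {S : Sylow 2 G}
  {P : Subgroup G} {k : ℕ} {M : NatK F (S : Subgroup G) P (zl (S : Subgroup G) P) ⊥ k}

/-- **(f1)** -/
theorem comm_line (hSP : (S : Subgroup G) ≤ P) {l : Fin k} {x : G} (hx : x ∈ stab M l)
    (hc : ∀ r ∈ line M l, x * r = r * x) : ∀ v ∈ fac M l, x * v * x⁻¹ * v⁻¹ ∈ line M l := by
  set N := pre M l with hN
  set R := toRMod N with hR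
  have hxN : x ∈ nmG N := stab_le_nmG hSP hx
  obtain ⟨s, hs⟩ := R.exists_semi hxN
  have hline : ∀ c : F, R.e (c • (![1, 0] : Fin 2 → F)) ∈ line M l := by
    intro c
    rw [← pre_line, ← hN, ← toRMod_line N]
    exact ⟨c, rfl⟩
  have hfix : ∀ c : F, R.act x (c • (![1, 0] : Fin 2 → F)) = c • ![1, 0] := by
    intro c
    apply R.e_inj
    rw [R.e_act hxN, hc _ (hline c), mul_inv_cancel_right]
  have hw : (![1, 0] : Fin 2 → F) ≠ 0 := by
    intro h
    have := congrFun h 0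
    simp at this
  have hs1 : ∀ c, s c = c := by
    intro c
    have h1 := hs c ![1, 0]
    have h2 : R.act x ![1, 0] = ![1, 0] := by
      have := hfix 1
      rwa [one_smul] at this
    rw [hfix, h2] at h1
    exact (smul_left_injective F hw h1).symm
  -- the action on `V/R`
  set b : F := R.act x ![0, 1] 1 with hb
  have hact : ∀ y : Fin 2 → F, R.act x y 1 = b * y 1 := by
    intro y
    have e : y = y 0 • (![1, 0] : Fin 2 → F) + y 1 • ![0, 1] := by
      apply NatPair.ext2 <;> simp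
    have h1 : R.act x y = y 0 • (![1, 0] : Fin 2 → F) + y 1 • R.act x ![0, 1] := by
      conv_lhs => rw [e]
      rw [R.act_add hxN, hfix, hs, hs1]
    rw [h1, Pi.add_apply, Pi.smul_apply, Pi.smul_apply, smul_eq_mul, smul_eq_mul, ← hb]
    simp [mul_comm]
  have hcon : ∀ y : Fin 2 → F, M.e (x * R.e y * x⁻¹) l = R.act x y := by
    intro y
    rw [← R.e_act hxN]
    exact pre_e M l _
  have hxn : x ∈ normalizer (fac M l : Set G) := stab_normalizes M l hx
  have hmem : ∀ v ∈ fac M l, x * v * x⁻¹ * v⁻¹ ∈ line M l ↔ b * M.e v l 1 = M.e v l 1 := by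
    intro v hv
    have hv' := (mem_normalizer_iff.1 hxn v).1 hv
    obtain ⟨y, rfl⟩ := (R.mem_iff v).1 hv
    have e1 : M.e (R.e y) l = y := pre_e M l y
    rw [mem_line]
    have e2 : M.e (x * R.e y * x⁻¹ * (R.e y)⁻¹) l 1 = b * y 1 - y 1 := by
      rw [M.mul _ hv'.1 _ (inv_mem hv.1), Pi.add_apply, Pi.add_apply, hcon, hact, e_inv M hv.1, Pi.neg_apply,
        Pi.neg_apply, e1]
      ring
    rw [e2, e1]
    constructor
    · rintro ⟨-, h⟩
      exact sub_eq_zero.1 h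
    · intro h
      exact ⟨mul_mem hv' (inv_mem hv), sub_eq_zero.2 h⟩
  -- a fixed point on `V/R`
  have hV2 : IsPGroup 2 (fac M l) := SideOf.isPGroup_of_sq fun x hx => sq M (fac_le M l hx)
  have hne : ¬ fac M l ≤ line M l := by
    intro h
    obtain ⟨v, hv, hev⟩ := exists_fac M l ![0, 1]
    have h1 := ((mem_line M).1 (h hv)).2
    rw [hev] at h1
    simp at h1
  have hn : fac M l ≤ normalizer (line M l : Set G) := by
    apply Two.le_normalizer_of
    intro k hk v hv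
    rw [comm M (fac_le M l hk) (fac_le M l (line_le M l hv)), mul_inv_cancel_right]
    exact hv
  obtain ⟨v, hv, hv1, hvt⟩ := SideOf.exists_fixed_mod hne hn hV2 (S.isPGroup'.to_le (stab_le M l))
    (stab_normalizes_line M hSP l) (stab_normalizes M l)
  have h1 := (hmem v hv).1 (hvt x hx)
  have h2 : M.e v l 1 ≠ 0 := fun h0 => hv1 ((mem_line M).2 ⟨hv, h0⟩)
  have hb1 : b = 1 := by
    have : b * M.e v l 1 = 1 * M.e v l 1 := by rw [h1, one_mul]
    exact mul_right_cancel₀ h2 this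
  intro v hv
  rw [hmem v hv, hb1, one_mul]

/-- **(f2)** -/
theorem mem_stab_of_fix (hSP : (S : Subgroup G) ≤ P) {l : Fin k} {x r : G} (hx : x ∈ (S : Subgroup G))
    (hr : r ∈ fac M l) (hr1 : r ≠ 1) (hc : x * r = r * x) : x ∈ stab M l := by
  rw [mem_stab]
  refine ⟨hx, ?_⟩
  have h1 := conj_fac M (hSP hx) l
  rw [h1]
  congr 1
  by_contra hne
  have h2 : r ∈ fac M l ⊓ fac M (sg M (hSP hx) l) := by
    refine ⟨hr, ?_⟩
    rw [← h1]
    refine ⟨r, hr, ?_⟩
    change x * r * x⁻¹ = r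
    rw [hc, mul_inv_cancel_right]
  rw [fac_inf M (Ne.symm hne), mem_bot] at h2
  exact hr1 h2

/-- **(f2')** an element of `S` centralising `r`, `1 ≠ r ∈ R_l`, for every `l`, normalises all factors -/
theorem le_stab_of_fix (hSP : (S : Subgroup G) ≤ P) {X : Subgroup G} (hX : X ≤ (S : Subgroup G)) {l : Fin k}
    (hc : ∀ r ∈ line M l, ∀ x ∈ X, x * r = r * x) : X ≤ stab M l := by
  obtain ⟨r, hr, hr1⟩ := exists_line M l
  exact fun x hx => mem_stab_of_fix hSP (hX hx) (line_le M l hr) hr1 (hc r hr x hx)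

/-- **(f4)** `k = 1` -/
theorem syl_one (hSP : (S : Subgroup G) ≤ P) (hk : k = 1) (i : Fin k) :
    stab M i = (S : Subgroup G) ∧ ¬ 2 ∣ (stab M i).relIndex (normalizer (line M i : Set G)) := by
  subst hk
  have h1 : stab M i = (S : Subgroup G) := by
    refine le_antisymm (stab_le M i) fun x hx => ?_
    rw [mem_stab]
    refine ⟨hx, ?_⟩
    rw [conj_fac M (hSP hx) i]
    congr 1
    exact Subsingleton.elim _ _
  refine ⟨h1, ?_⟩
  have h2 := stab_normalizes_line M hSP i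
  rw [h1] at h2 ⊢
  exact MinSimple.Basic.not_dvd_relIndex S h2

end tools

/-! ### LEMMA K -/

section lemK

variable {G : Type u} [Group G] [Finite G]

/-- **LEMMA K (#19731).** -/
theorem lemK {Q U Kr R Y A : Subgroup G} {z : G}
    (hA : ∀ y ∈ Y, ∀ g ∈ Q, y * g * y⁻¹ * g⁻¹ ∈ A)
    (hA' : A ≤ closure {a | ∃ y ∈ Y, ∃ g ∈ Q, y * g * y⁻¹ * g⁻¹ = a})
    (hmin : ∀ u ∈ Q, (∃ y ∈ Y, y * u ≠ u * y) → A ≤ closure {a | ∃ y ∈ Y, y * u * y⁻¹ * u⁻¹ = a})
    (hUQ : U ≤ Q) (hYU : ∀ y ∈ Y, ∀ u ∈ U, y * u * y⁻¹ * u⁻¹ ∈ U)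
    (hUK : ∀ u ∈ U, ∀ w ∈ Kr, w * u = u * w)
    (hRQ : ∀ r ∈ R, ∀ g ∈ Q, r * g = g * r)
    (hYw : (∀ y ∈ Y, ∀ u ∈ U, y * u = u * y) → ∀ y ∈ Y, ∀ w ∈ Kr, ∃ r ∈ R, w * y * w⁻¹ = y * r)
    (hQw : ∀ w ∈ Kr, ∀ g ∈ Q, w * g * w⁻¹ ∈ Q)
    (hz : z ∈ A) (hroot : z ∉ R → ∀ r ∈ R, ∃ w ∈ Kr, w * z * w⁻¹ = z * r)
    (hcard : Nat.card A ≤ Nat.card R) (hR1 : R ≠ ⊥) : z ∈ R := by
  by_contra hzR
  have hro := hroot hzR
  by_cases hmv : ∃ u ∈ U, ∃ y ∈ Y, y * u ≠ u * y
  · obtain ⟨u, hu, hy⟩ := hmv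
    have h1 : A ≤ U := by
      refine (hmin u (hUQ hu) hy).trans ?_
      rw [closure_le]
      rintro _ ⟨y, hy, rfl⟩
      exact hYU y hy u hu
    obtain ⟨r, hr, hr1⟩ := (Subgroup.bot_or_exists_ne_one R).resolve_left hR1
    obtain ⟨w, hw, hwz⟩ := hro r hr
    rw [hUK z (h1 hz) w hw, mul_inv_cancel_right] at hwz
    exact hr1 (mul_eq_left.1 hwz.symm)
  · push Not at hmv
    have hY := hYw fun y hy u hu => hmv u hu y hy
    have hinv : ∀ w ∈ Kr, ∀ a ∈ A, w * a * w⁻¹ ∈ A := by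
      intro w hw a ha
      have h1 : A ≤ A.comap (MulAut.conj w).toMonoidHom := by
        refine hA'.trans ?_
        rw [closure_le]
        rintro _ ⟨y, hy, g, hg, rfl⟩
        obtain ⟨r, hr, hwy⟩ := hY y hy w hw
        have hg' := hQw w hw g hg
        change w * (y * g * y⁻¹ * g⁻¹) * w⁻¹ ∈ A
        have e1 : w * (y * g * y⁻¹ * g⁻¹) * w⁻¹ =
            (w * y * w⁻¹) * (w * g * w⁻¹) * (w * y * w⁻¹)⁻¹ * (w * g * w⁻¹)⁻¹ := by group
        have e2 : y * r * (w * g * w⁻¹) * (y * r)⁻¹ * (w * g * w⁻¹)⁻¹ =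
            y * (w * g * w⁻¹) * y⁻¹ * (w * g * w⁻¹)⁻¹ := by
          have h2 := hRQ r hr _ hg'
          calc y * r * (w * g * w⁻¹) * (y * r)⁻¹ * (w * g * w⁻¹)⁻¹ =
              y * (r * (w * g * w⁻¹)) * r⁻¹ * y⁻¹ * (w * g * w⁻¹)⁻¹ := by group
            _ = y * (w * g * w⁻¹) * y⁻¹ * (w * g * w⁻¹)⁻¹ := by rw [h2]; group
        rw [e1, hwy, e2]
        exact hA y hy _ hg'
      exact h1 ha
    have h1 : R ≤ A := by
      intro r hr
      obtain ⟨w, hw, hwz⟩ := hro r hr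
      have h2 := mul_mem (inv_mem hz) (hinv w hw z hz)
      rw [hwz, inv_mul_cancel_left] at h2
      exact h2
    have h2 : R = A := Subgroup.eq_of_le_of_card_ge h1 hcard
    rw [h2] at hzR
    exact hzR hz

end lemK

end Cfsg.Agent.Omega.IId.BigFour.SylTools
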