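import Cfsg.Agent.Omega.IId.BigFour.SylPt
import Cfsg.Agent.Omega.IId.BigFour.SylEnd
import Cfsg.Agent.Omega.IId.BigFour.SylTools
import Cfsg.Agent.Omega.IId.BigFour.SylFr
import Cfsg.Agent.Omega.IId.BigFour.Orbit2

/-!
# II.d, `BigFour.CaseTwo` (helper873)

`T = stab M i` is a Sylow 2-subgroup of `N_G(line M i)`, for all `q` and all `k ≥ 2`, if all lines have partners
(#19648, #19731).

* `LemTwo M i` : LEMMA 2: `N_G(line M i) ∩ N_G(T)` normalises `V⁻ = {v ∈ V | M.e v i 1 = 0}`;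
* `perm` : it permutes the lines `line M l`, `l ≠ i`;
* `not_dvd` : `T` is a Sylow 2-subgroup of `N_G(line M i)`;
* `lemTwo` : LEMMA 2 (`SylFr`, `Orbit2`);
* `caseTwo` : **`CaseTwo K`**.
-/

set_option autoImplicit false
set_option linter.unusedSectionVars false

namespace Cfsg.Agent.Omega.IId.BigFour.SylFour

open Subgroup Cfsg Cfsg.Agent.ZN.ChoiceBase
open Cfsg.Agent.ZN (o2 zc zl)
open Cfsg.Agent.Omega.MinPar Cfsg.Agent.Omega.FFThm Cfsg.Agent.Omega.Frame
open Cfsg.Agent.Omega.IId.SideOf (KR mem_KR)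
open Cfsg.Agent.Omega.IId.Lns
open Cfsg.Agent.Omega.IId.BigFour.SylPt
open Cfsg.Agent.Omega.IId.BigFour.SylTools (comm_line syl_one)

universe u

section main

variable {G : Type u} [Group G] [Finite G] {F : Type} [Field F] [Finite F] [CharP F 2]
  {S : Sylow 2 G} {P : Subgroup G} {k : ℕ}
  {M : NatK F (S : Subgroup G) P (zl (S : Subgroup G) P) ⊥ k}

/-- The conclusion of LEMMA 2. -/
def LemTwo (M : NatK F (S : Subgroup G) P (zl (S : Subgroup G) P) ⊥ k) (i : Fin k) : Prop :=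
  ∀ t ∈ normalizer (line M i : Set G), t ∈ normalizer (stab M i : Set G) →
    ∀ v ∈ zl (S : Subgroup G) P, M.e v i 1 = 0 →
      t * v * t⁻¹ ∈ zl (S : Subgroup G) P ∧ M.e (t * v * t⁻¹) i 1 = 0

theorem KR_le_stab (h : Cx M) (i l : Fin k) : KR (line M l) ≤ stab M i := by
  have h1 := Qt.qt h.le h.cc l
  have h2 := h.KR_le_QR (line_mem_lns (M := M) l)
  exact le_inf (h2.trans (h1.1.trans (stab_le M l))) (h2.trans (h1.2 i))

theorem perm (h : Cx M) {i : Fin k} (h2 : LemTwo M i) {t : G} (ht : t ∈ normalizer (line M i : Set G))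
    (htT : t ∈ normalizer (stab M i : Set G)) {l : Fin k} (hl : l ≠ i) :
    ∃ m, m ≠ i ∧ cj t (line M l) = line M m := by
  have hR := line_mem_lns (M := M) l
  have hcj : ∀ {x : G} {X : Subgroup G}, x ∈ X → t * x * t⁻¹ ∈ cj t X := fun {x X} hx => by
    rw [mem_cj]
    have e : t⁻¹ * (t * x * t⁻¹) * t = x := by group
    rwa [e]
  refine perm_line (M := M) h.le (A := cj t (KR (line M l))) ?_ ?_ ?_ ?_ ?_ ?_
  · rw [← mem_normalizer_iff_cj.1 htT]
    exact cj_mono t (KR_le_stab h i l)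
  · rw [card_cj, card_line]
  · intro v hv hv0
    obtain ⟨hv', hv0'⟩ := h2 t⁻¹ (inv_mem ht) (inv_mem htT) v hv hv0
    rw [inv_inv] at hv' hv0'
    obtain ⟨a, ha, ha1, ha2⟩ := exists_component M hv' l
    by_cases hal : a ∈ line M l
    · left
      intro x hx
      rw [mem_cj] at hx
      have h3 := mem_centralizer_iff.1 (mem_KR.1 hx).1 a hal
      have h4 := h.QR_comm hR (h.KR_le_QR hR hx) ha2
      have h5 : t⁻¹ * x * t * (t⁻¹ * v * t) = t⁻¹ * v * t * (t⁻¹ * x * t) := by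
        calc t⁻¹ * x * t * (t⁻¹ * v * t) = t⁻¹ * x * t * a * (a⁻¹ * (t⁻¹ * v * t)) := by group
          _ = a * (t⁻¹ * x * t) * (a⁻¹ * (t⁻¹ * v * t)) := by rw [h3]
          _ = a * (t⁻¹ * x * t * (a⁻¹ * (t⁻¹ * v * t))) := by group
          _ = a * (a⁻¹ * (t⁻¹ * v * t) * (t⁻¹ * x * t)) := by rw [h4]
          _ = t⁻¹ * v * t * (t⁻¹ * x * t) := by group
      calc x * v = t * (t⁻¹ * x * t * (t⁻¹ * v * t)) * t⁻¹ := by group
        _ = t * (t⁻¹ * v * t * (t⁻¹ * x * t)) * t⁻¹ := by rw [h5]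
        _ = v * x := by group
    · right
      constructor
      · intro x hx
        rw [mem_cj] at hx ⊢
        have h3 := h.comm_V hR (h.KR_le_QR hR hx) hv'
        have e : t⁻¹ * (v * x * v⁻¹ * x⁻¹) * t =
            (t⁻¹ * x * t * (t⁻¹ * v * t) * (t⁻¹ * x * t)⁻¹ * (t⁻¹ * v * t)⁻¹)⁻¹ := by group
        rw [e]
        exact inv_mem h3
      · intro z hz
        rw [mem_cj] at hz
        obtain ⟨w, hw, h3⟩ := h.full_V hR ha hal ha2 (inv_mem hz)
        refine ⟨t * w * t⁻¹, hcj hw, ?_⟩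
        calc v * (t * w * t⁻¹) * v⁻¹ * (t * w * t⁻¹)⁻¹ = t * (w * (t⁻¹ * v * t) * w⁻¹ * (t⁻¹ * v * t)⁻¹)⁻¹ * t⁻¹ := by
              group
          _ = t * ((t⁻¹ * z * t)⁻¹)⁻¹ * t⁻¹ := by rw [h3]
          _ = z := by group
  · intro a ha r hr
    rw [mem_cj] at ha
    have h3 : t⁻¹ * r * t ∈ line M i := by
      have := (mem_normalizer_iff.1 (inv_mem ht) r).1 hr
      rwa [inv_inv] at this
    have h4 := mem_centralizer_iff.1 (h.QR_cent (Ne.symm hl) hR (h.KR_le_QR hR ha)) _ (line_le M i h3)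
    calc a * r = t * (t⁻¹ * a * t * (t⁻¹ * r * t)) * t⁻¹ := by group
      _ = t * (t⁻¹ * r * t * (t⁻¹ * a * t)) * t⁻¹ := by rw [h4]
      _ = r * a := by group
  · obtain ⟨v, hv, hve⟩ := exists_fac M l ![0, 1]
    have hvR : v ∉ line M l := by
      intro h3
      have h4 := ((mem_line M).1 h3).2
      rw [hve] at h4
      simp at h4
    have hvi : M.e v i 1 = 0 := by
      rw [hv.2 i (Ne.symm hl)]
      rfl
    obtain ⟨h5, h6⟩ := h2 t ht htT v hv.1 hvi
    refine ⟨_, h5, h6, ?_⟩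
    obtain ⟨r, hr, hr1⟩ := (Subgroup.bot_or_exists_ne_one (line M l)).resolve_left (h.R_ne hR)
    obtain ⟨w, hw, h7⟩ := h.full_V hR hv hvR (v := v) (by rw [inv_mul_cancel]; exact one_mem _) hr
    refine ⟨t * w * t⁻¹, hcj hw, fun h8 => hr1 ?_⟩
    rw [← h7]
    have h9 : w * v = v * w := by
      calc w * v = t⁻¹ * (t * w * t⁻¹ * (t * v * t⁻¹)) * t := by group
        _ = t⁻¹ * (t * v * t⁻¹ * (t * w * t⁻¹)) * t := by rw [h8]
        _ = v * w := by group
    rw [h9, mul_inv_cancel_right, mul_inv_cancel]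
  · intro m a _ ha hc
    exact comm_line h.le ha hc

/-- `T` is a Sylow 2-subgroup of `N_G(R)`. -/
theorem not_dvd (h : Cx M) {i : Fin k} (h2 : LemTwo M i) :
    ¬ 2 ∣ (stab M i).relIndex (normalizer (line M i : Set G)) :=
  not_dvd_of_perm M h.le fun _ ht htT _ hl => perm h h2 ht htT hl

theorem lemTwo (h : Cx M) {i : Fin k} (hk : ∃ j, j ≠ i) : LemTwo M i := by
  have hf : SylFr.FrH M :=
    { c2T := h.c2T
      par := h.par
      cc := h.cc
      full := fun j L hL v hv hvL r hr =>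
        h.full_V hL hv hvL (v := v) (by rw [inv_mul_cancel]; exact one_mem _) hr
      hV := fun i' y hy hyc hyQ => by
        refine h.hV ?_ hy hyc hyQ
        by_cases he : i' = i
        · rw [he]
          exact hk
        · exact ⟨i, Ne.symm he⟩ }
  intro t ht htT v hv hv0
  exact hf.minus_inv (i := i) (fun X hX hne => Orbit2.exists_orbit_two M h.le hX hne) ht htT v ⟨hv, hv0⟩

/-- **`T` is a Sylow 2-subgroup of `N_G(R)`.** -/
theorem syl (h : Cx M) {i : Fin k} (hk : ∃ j, j ≠ i) :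
    ¬ 2 ∣ (stab M i).relIndex (normalizer (line M i : Set G)) :=
  not_dvd h (lemTwo h hk)

end main

/-- Both sides of a pair: `T = N_S(V_i)` is a Sylow 2-subgroup of `N_G(R)`. -/
theorem syl_of_pair {G : Type u} [Group G] [Finite G] {F F' : Type} [Field F] [Finite F] [CharP F 2]
    [Field F'] [Finite F'] [CharP F' 2] {S S' : Sylow 2 G} {P P' : Subgroup G} {k k' : ℕ}
    {M : NatK F (S : Subgroup G) P (zl (S : Subgroup G) P) ⊥ k}
    {M' : NatK F' (S' : Subgroup G) P' (zl (S' : Subgroup G) P') ⊥ k'} {i : Fin k} {i' : Fin k'}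
    (b : BOne M i) (b' : BOne M' i') (hl : line M i = line M' i') (hF : Nat.card F' = Nat.card F)
    (hne : ∃ v ∈ fac M i, ∃ w ∈ fac M' i', v * w ≠ w * v) :
    ¬ 2 ∣ (stab M i).relIndex (normalizer (line M i : Set G)) := by
  rcases Nat.lt_or_ge k 2 with hk | hk
  · have : k = 1 := by
      have := i.2
      omega
    exact (syl_one (M := M) b.le this i).2
  · have hx : Cx M := Cx.of_ptn b.c2T b.par b.cc (ptn_of_pair b b' hl hF hne)
    have : Nontrivial (Fin k) := Fin.nontrivial_iff_two_le.2 hk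
    exact syl hx (exists_ne i)

/-- **`CaseTwo K`** -/
theorem caseTwo (K : Cls.{u}) : CaseTwo K := by
  intro G _ _ S S' hH P P' hp F F' _ _ _ _ _ _ k k' M M' i i' hk hk' h4 hF hC hC' hi hl hne _ _ hd
  exfalso
  have hc := hH.ctx.char2
  have b : BOne M i := BOne.of hc hp.star hC i
  have b' : BOne M' i' := BOne.of hc hp.star' hC' i'
  rcases hd with hd | hd
  · exact syl_of_pair b b' hl hF hne hd
  · obtain ⟨v, hv, w, hw, hvw⟩ := hne
    exact syl_of_pair b' b hl.symm hF.symm ⟨w, hw, v, hv, Ne.symm hvw⟩ hd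

end Cfsg.Agent.Omega.IId.BigFour.SylFour
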